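import Cfsg.Agent.Lib.Blocks.GroupAlgebra
import Mathlib.FieldTheory.Finiteness
import Mathlib.Algebra.CharP.Algebra
import Mathlib.Algebra.Module.ZMod
import Mathlib.LinearAlgebra.Basis.VectorSpace
import Mathlib.GroupTheory.QuotientGroup.Finite
import Mathlib.GroupTheory.Perm.Cycle.Type
import Mathlib.GroupTheory.PGroup
import Mathlib.RingTheory.Int.Basic
import Mathlib.Algebra.Field.ZMod

/-!
# A first-order functional forces trivial action

`commute_of_decomp`: if every element of `k[G] ē` in the augmentation ideal of `V` is a combination,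
with central coefficients in that ideal, of finitely many elements, then the stabiliser of `ē`
centralises `V`.
-/

set_option autoImplicit false
set_option linter.unusedSectionVars false

noncomputable section

namespace CfsgLib.CharBlocks.EqualDegree

open CfsgLib.Blocks

/-- Elementary abelian groups: sums of an additive functional. -/
theorem sum_additive_eq_zero {p : ℕ} [hp : Fact p.Prime] {k : Type*} [Field k] [CharP k p]
    {W : Type*} [Group W] [Fintype W] (hexp : ∀ w : W, w ^ p = 1) (h4 : p ≠ 2 ∨ 4 ∣ Nat.card W)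
    (hW : Nat.card W ≠ 1) (μ : W → k) (hμ : ∀ a b, μ (a * b) = μ a + μ b) : ∑ w, μ w = 0 := by
  classical
  have h1 : μ 1 = 0 := by simpa using hμ 1 1
  have hinv : ∀ w, μ w⁻¹ = -μ w := fun w => by
    refine eq_neg_of_add_eq_zero_left ?_
    rw [← hμ, inv_mul_cancel, h1]
  by_cases hp2 : p = 2
  swap
  · have h2 : ∑ w, μ w = -∑ w, μ w := by
      conv_lhs => rw [← Equiv.sum_comp (Equiv.inv W)]
      simp [hinv]
    have h3 : (2 : k) * ∑ w, μ w = 0 := by linear_combination h2
    refine (mul_eq_zero.mp h3).resolve_left fun h => hp2 ?_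
    have : p ∣ 2 := (CharP.cast_eq_zero_iff k p 2).mp (by exact_mod_cast h)
    exact (Nat.prime_dvd_prime_iff_eq hp.out Nat.prime_two).mp this
  subst hp2
  rcases eq_or_ne (∀ w, μ w = 0) True with h | h
  · exact Finset.sum_eq_zero fun w _ => (h.symm ▸ trivial : ∀ w, μ w = 0) w
  obtain ⟨w₀, hw₀⟩ : ∃ w, μ w ≠ 0 := by
    by_contra hall
    push Not at hall
    exact h (eq_true hall)
  -- a pairing `w ↦ w₀ w`
  set K : Subgroup W :=
    { carrier := {w | μ w = 0}
      one_mem' := h1
      mul_mem' := fun {a b} ha hb => by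
        show μ (a * b) = 0
        rw [hμ, Set.mem_setOf_eq.mp ha, Set.mem_setOf_eq.mp hb, add_zero]
      inv_mem' := fun {a} ha => by
        show μ a⁻¹ = 0
        rw [hinv, Set.mem_setOf_eq.mp ha, neg_zero] }
  have hsplit : ∀ w, μ w = 0 ∨ μ w ≠ 0 := fun w => em _
  have hdouble : ∀ x : k, x + x = 0 := fun x => by
    have : ((2 : ℕ) : k) = 0 := CharP.cast_eq_zero k 2
    rw [← two_mul]
    exact mul_eq_zero_of_left (by exact_mod_cast this) x
  have hswap : ∑ w, μ w = ∑ w, (μ w₀ + μ w) := by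
    conv_lhs => rw [← Equiv.sum_comp (Equiv.mulLeft w₀)]
    simp [hμ]
  -- `|W| / 2` copies
  have h4' : 4 ∣ Nat.card W := h4.resolve_left (by simp)
  obtain ⟨U, hU⟩ : ∃ U : Subgroup W, U = Subgroup.zpowers w₀ := ⟨_, rfl⟩
  have hordw : orderOf w₀ = 2 := orderOf_eq_prime (hexp w₀) fun h => hw₀ (by rw [h, h1])
  have hUcard : Nat.card U = 2 := by rw [hU, Nat.card_zpowers, hordw]
  let _ := Fintype.ofFinite (W ⧸ U)
  have hidx : 2 ∣ Nat.card (W ⧸ U) := by
    have := Subgroup.card_eq_card_quotient_mul_card_subgroup U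
    rw [this, hUcard] at h4'
    omega
  have hsum : ∑ w, μ w = ∑ q : W ⧸ U, (μ w₀) := by
    rw [← Finset.sum_fiberwise (Finset.univ) (fun w : W => (w : W ⧸ U)) μ]
    refine Finset.sum_congr rfl fun q _ => ?_
    obtain ⟨a, rfl⟩ := QuotientGroup.mk_surjective q
    have hset : (Finset.univ.filter fun w : W => (w : W ⧸ U) = (a : W ⧸ U)) = {a, a * w₀} := by
      ext w
      simp only [Finset.mem_filter, Finset.mem_univ, true_and, Finset.mem_insert, Finset.mem_singleton]
      rw [eq_comm, QuotientGroup.eq, hU]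
      constructor
      · intro hw
        obtain ⟨j, hj⟩ := Subgroup.mem_zpowers_iff.mp hw
        rcases Int.even_or_odd j with ⟨i, rfl⟩ | ⟨i, rfl⟩
        · left
          have : w₀ ^ (i + i) = 1 := by
            rw [← two_mul, zpow_mul]; norm_num [hexp w₀]
          rw [this] at hj
          exact (inv_mul_eq_one.mp hj.symm).symm
        · right
          have : w₀ ^ (2 * i + 1) = w₀ := by
            rw [zpow_add, zpow_mul, zpow_one]; norm_num [hexp w₀]
          rw [this] at hj
          rw [hj]; group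
      · rintro (rfl | rfl)
        · simp
        · simp
    rw [hset, Finset.sum_pair (fun h => hw₀ (by
      have h' : w₀ = 1 := mul_eq_left.mp h.symm
      rw [h', h1])), hμ, ← add_assoc, hdouble, zero_add]
  rw [hsum, Finset.sum_const, Finset.card_univ, ← Nat.card_eq_fintype_card, nsmul_eq_mul,
    (CharP.cast_eq_zero_iff k 2 _).mpr hidx, zero_mul]

variable {G : Type*} [Group G] [Fintype G] {k : Type*} [Field k] {p : ℕ} [hp : Fact p.Prime]
  [CharP k p] {V N : Subgroup G} [V.Normal] [N.Normal]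

/-- The kernel of reduction modulo `V`. -/
def InAug (V : Subgroup G) [V.Normal] (y : MonoidAlgebra k G) : Prop :=
  MonoidAlgebra.mapDomainRingHom k (QuotientGroup.mk' V) y = 0

/-- The coset representative. -/
def rep (V : Subgroup G) (g : G) : G := (g : G ⧸ V).out

theorem rep_mk (V : Subgroup G) (g : G) : ((rep V g : G) : G ⧸ V) = (g : G ⧸ V) :=
  QuotientGroup.out_eq' _

theorem div_rep_mem (V : Subgroup G) [V.Normal] (g : G) : g * (rep V g)⁻¹ ∈ V := by
  rw [← QuotientGroup.eq_one_iff, QuotientGroup.mk_mul, QuotientGroup.mk_inv, rep_mk, mul_inv_cancel]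

theorem inAug_mul_left {y : MonoidAlgebra k G} (x : MonoidAlgebra k G) (h : InAug V y) : InAug V (x * y) := by
  rw [InAug, map_mul, h, mul_zero]

theorem inAug_mul_right {y : MonoidAlgebra k G} (x : MonoidAlgebra k G) (h : InAug V y) : InAug V (y * x) := by
  rw [InAug, map_mul, h, zero_mul]

theorem inAug_gen {v : G} (hv : v ∈ V) (g : G) :
    InAug (k := k) V (MonoidAlgebra.single (v * g) 1 - MonoidAlgebra.single g 1) := by
  rw [InAug, map_sub, MonoidAlgebra.mapDomainRingHom_apply, MonoidAlgebra.mapDomainRingHom_apply,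
    MonoidAlgebra.mapDomain_single, MonoidAlgebra.mapDomain_single, sub_eq_zero]
  congr 1
  rw [map_mul, QuotientGroup.mk'_apply, (QuotientGroup.eq_one_iff (N := V) v).mpr hv, one_mul]

theorem eq_sum_gen {y : MonoidAlgebra k G} (h : InAug V y) :
    y = ∑ g, y.coeff g • (MonoidAlgebra.single g (1 : k) - MonoidAlgebra.single (rep V g) 1) := by
  have h1 : ∀ x : MonoidAlgebra k G, ∑ g, x.coeff g • MonoidAlgebra.single (rep V g) (1 : k) =
      MonoidAlgebra.mapDomain Quotient.out (MonoidAlgebra.mapDomainRingHom k (QuotientGroup.mk' V) x) := by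
    intro x
    induction x using MonoidAlgebra.induction_linear with
    | zero => simp
    | add a b ha hb =>
      simp only [MonoidAlgebra.coeff_add, Finsupp.add_apply, add_smul, Finset.sum_add_distrib, ha, hb,
        map_add, MonoidAlgebra.mapDomain_add]
    | single g c =>
      rw [Finset.sum_eq_single g]
      · simp [rep, MonoidAlgebra.smul_single]
      · intro b _ hb
        simp [Ne.symm hb]
      · intro hn; exact absurd (Finset.mem_univ _) hn
  have h2 : ∑ g, y.coeff g • MonoidAlgebra.single g (1 : k) = y := by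
    refine MonoidAlgebra.coeff_injective (Finsupp.ext fun x => ?_)
    classical
    simp [MonoidAlgebra.coeff_sum, Finsupp.single_apply]
  have h3 : MonoidAlgebra.mapDomainRingHom k (QuotientGroup.mk' V) y = 0 := h
  simp only [smul_sub, Finset.sum_sub_distrib, h1, h2, h3, MonoidAlgebra.mapDomain_zero, sub_zero]

/-- Linear extension of a function. -/
def lext (F : G → k) : MonoidAlgebra k G →ₗ[k] k where
  toFun y := ∑ g, y.coeff g * F g
  map_add' a b := by simp [add_mul, Finset.sum_add_distrib]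
  map_smul' c a := by simp [Finset.mul_sum, mul_assoc]

theorem lext_single (F : G → k) (g : G) : lext F (MonoidAlgebra.single g 1) = F g := by
  classical
  show ∑ h, (MonoidAlgebra.single g (1 : k)).coeff h * F h = F g
  rw [Finset.sum_eq_single g] <;> simp +contextual [Finsupp.single_apply, eq_comm]

theorem lext_eq_sum (F : G → k) (y : MonoidAlgebra k G) : lext F y = ∑ g, y.coeff g * F g := rfl

theorem linear_ext {φ ψ : MonoidAlgebra k G →ₗ[k] k}
    (h : ∀ g : G, φ (MonoidAlgebra.single g 1) = ψ (MonoidAlgebra.single g 1)) (y : MonoidAlgebra k G) :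
    φ y = ψ y := by
  induction y using MonoidAlgebra.induction_linear with
  | zero => simp
  | add a b ha hb => simp [ha, hb]
  | single g c =>
    rw [show MonoidAlgebra.single g c = c • MonoidAlgebra.single g (1 : k) by
      rw [MonoidAlgebra.smul_single', mul_one], map_smul, map_smul, h]

/-- The data of the core argument. -/
structure Data (p : ℕ) (V N : Subgroup G) [V.Normal] [N.Normal] (θ : G → k) (e : MonoidAlgebra k G) :
    Prop where
  le : V ≤ N
  central : ∀ v ∈ V, ∀ n ∈ N, v * n = n * v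
  exp : ∀ v ∈ V, v ^ p = 1
  zero_off : ∀ g, g ∉ N → θ g = 0
  inv : ∀ v ∈ V, ∀ g, θ (v * g) = θ g
  cls : ∀ m ∈ N, ∀ g, θ (m * g * m⁻¹) = θ g
  ne_zero : ∃ n ∈ N, θ n ≠ 0
  supp : ∀ g, g ∉ N → e.coeff g = 0
  comm : ∀ m ∈ N, MonoidAlgebra.single m 1 * e = e * MonoidAlgebra.single m 1
  fix : ∀ n ∈ N, lext θ (MonoidAlgebra.single n 1 * e) = θ n
  orth : ∀ g, MonoidAlgebra.single g 1 * e ≠ e * MonoidAlgebra.single g 1 →
    e * MonoidAlgebra.single g 1 * e = 0
  uniq : ∀ F : G → k, (∀ m ∈ N, ∀ g, F (m * g * m⁻¹) = F g) → (∀ v ∈ V, ∀ g, F (v * g) = F g) →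
    (∀ n ∈ N, lext F (MonoidAlgebra.single n 1 * e) = F n) → ∃ c, ∀ n ∈ N, F n = c * θ n

variable {θ : G → k} {e : MonoidAlgebra k G}

/-- The first-order function. -/
def lfun (V : Subgroup G) (θ : G → k) (μ : G → k) (g : G) : k := μ (g * (rep V g)⁻¹) * θ g

namespace Data

variable (D : Data p V N θ e) {μ : G → k} (hμ : ∀ a ∈ V, ∀ b ∈ V, μ (a * b) = μ a + μ b)

include D

theorem mem_iff {v : G} (hv : v ∈ V) (g : G) : v * g ∈ N ↔ g ∈ N :=
  N.mul_mem_cancel_left (D.le hv)

include hμ in
theorem lfun_mul {v : G} (hv : v ∈ V) (g : G) :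
    lfun V θ μ (v * g) = μ v * θ g + lfun V θ μ g := by
  have hr : rep V (v * g) = rep V g := by
    rw [rep, rep, QuotientGroup.mk_mul, (QuotientGroup.eq_one_iff v).mpr hv, one_mul]
  rw [lfun, lfun, hr, D.inv v hv, mul_assoc v g, hμ v hv _ (div_rep_mem V g), add_mul]

include hμ in
theorem lext_gen {v : G} (hv : v ∈ V) (y : MonoidAlgebra k G) :
    lext (lfun V θ μ) ((MonoidAlgebra.single v 1 - 1) * y) = μ v * lext θ y := by
  induction y using MonoidAlgebra.induction_linear with
  | zero => simp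
  | add a b ha hb => rw [mul_add, map_add, ha, hb, map_add, mul_add]
  | single g c =>
    rw [show MonoidAlgebra.single g c = c • MonoidAlgebra.single g (1 : k) by
      rw [MonoidAlgebra.smul_single', mul_one], mul_smul_comm, map_smul, map_smul, sub_mul, one_mul,
      MonoidAlgebra.single_mul_single, one_mul, map_sub, lext_single, lext_single, lext_single,
      D.lfun_mul hμ hv]
    simp only [smul_eq_mul]
    ring

theorem theta_aug {y : MonoidAlgebra k G} (hy : InAug V y) : lext θ y = 0 := by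
  rw [eq_sum_gen hy, map_sum]
  refine Finset.sum_eq_zero fun g _ => ?_
  rw [map_smul, map_sub, lext_single, lext_single]
  have := D.inv _ (div_rep_mem V g) (rep V g)
  rw [inv_mul_cancel_right] at this
  rw [this, sub_self, smul_zero]

/-- Induction over the augmentation ideal. -/
theorem aug_induction {y : MonoidAlgebra k G} (hy : InAug V y) (φ ψ : MonoidAlgebra k G →ₗ[k] k)
    (h : ∀ v ∈ V, ∀ g, φ ((MonoidAlgebra.single v 1 - 1) * MonoidAlgebra.single g 1) =
      ψ ((MonoidAlgebra.single v 1 - 1) * MonoidAlgebra.single g 1)) : φ y = ψ y := by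
  rw [eq_sum_gen hy, map_sum, map_sum]
  refine Finset.sum_congr rfl fun g _ => ?_
  have e1 : MonoidAlgebra.single g (1 : k) - MonoidAlgebra.single (rep V g) 1 =
      (MonoidAlgebra.single (g * (rep V g)⁻¹) 1 - 1) * MonoidAlgebra.single (rep V g) 1 := by
    rw [sub_mul, one_mul, MonoidAlgebra.single_mul_single, one_mul, inv_mul_cancel_right]
  rw [map_smul, map_smul, e1, h _ (div_rep_mem V g)]

theorem lext_off {g : G} (hg : g ∉ N) : lext θ (MonoidAlgebra.single g 1 * e) = 0 := by
  classical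
  rw [lext_eq_sum]
  refine Finset.sum_eq_zero fun x _ => ?_
  by_cases hx : x ∈ N
  · rw [coeff_mul_eq_sum, Finset.sum_eq_zero, zero_mul]
    intro h _
    rw [MonoidAlgebra.coeff_single, Finsupp.single_apply]
    split_ifs with hgh
    · subst hgh
      rw [D.supp _ (fun h2 => hg ?_), mul_zero]
      have h3 := N.mul_mem hx (inv_mem h2)
      simpa using h3
    · rw [zero_mul]
  · rw [D.zero_off x hx, mul_zero]

include hμ in
theorem lext_mul_e {y : MonoidAlgebra k G} (hy : InAug V y) :
    lext (lfun V θ μ) (y * e) = lext (lfun V θ μ) y := by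
  refine D.aug_induction hy ((lext (lfun V θ μ)).comp (LinearMap.mulRight k e)) (lext (lfun V θ μ)) ?_
  intro v hv g
  rw [LinearMap.comp_apply, LinearMap.mulRight_apply, mul_assoc, D.lext_gen hμ hv, D.lext_gen hμ hv,
    lext_single]
  congr 1
  by_cases hg : g ∈ N
  · exact D.fix g hg
  · rw [D.lext_off hg, D.zero_off g hg]

include hμ in
theorem lext_conj {y : MonoidAlgebra k G} (hy : InAug V y) {m : G} (hm : m ∈ N) :
    lext (lfun V θ μ) (MonoidAlgebra.single m 1 * y * MonoidAlgebra.single m⁻¹ 1) =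
      lext (lfun V θ μ) y := by
  refine D.aug_induction hy ((lext (lfun V θ μ)).comp
    ((LinearMap.mulRight k (MonoidAlgebra.single m⁻¹ 1)).comp
      (LinearMap.mulLeft k (MonoidAlgebra.single m 1)))) (lext (lfun V θ μ)) ?_
  intro v hv g
  have e1 : MonoidAlgebra.single m (1 : k) * ((MonoidAlgebra.single v 1 - 1) * MonoidAlgebra.single g 1) *
      MonoidAlgebra.single m⁻¹ 1 = (MonoidAlgebra.single v 1 - 1) * MonoidAlgebra.single (m * g * m⁻¹) 1 := by
    simp only [sub_mul, mul_sub, one_mul, MonoidAlgebra.single_mul_single, mul_one]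
    congr 2
    have := D.central v hv m hm
    calc m * (v * g) * m⁻¹ = m * v * g * m⁻¹ := by group
      _ = v * m * g * m⁻¹ := by rw [this]
      _ = v * (m * g * m⁻¹) := by group
  rw [LinearMap.comp_apply, LinearMap.comp_apply, LinearMap.mulLeft_apply, LinearMap.mulRight_apply, e1,
    D.lext_gen hμ hv, D.lext_gen hμ hv, lext_single, lext_single, D.cls m hm]

include hμ in
theorem lext_e_mul {y : MonoidAlgebra k G} (hy : InAug V y) :
    lext (lfun V θ μ) (e * y) = lext (lfun V θ μ) y := by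
  have he : e = ∑ m, e.coeff m • MonoidAlgebra.single m (1 : k) := by
    refine MonoidAlgebra.coeff_injective (Finsupp.ext fun x => ?_)
    classical
    simp [MonoidAlgebra.coeff_sum, Finsupp.single_apply]
  refine Eq.trans ?_ (D.lext_mul_e hμ hy)
  rw [he, Finset.sum_mul, Finset.mul_sum, map_sum, map_sum]
  refine Finset.sum_congr rfl fun m _ => ?_
  by_cases hm : m ∈ N
  · rw [smul_mul_assoc, mul_smul_comm, map_smul, map_smul]
    congr 1
    have h1 := D.lext_conj hμ (inAug_mul_right (MonoidAlgebra.single m 1) hy) hm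
    rw [← h1]
    congr 1
    rw [mul_assoc, mul_assoc, MonoidAlgebra.single_mul_single, mul_one, mul_inv_cancel,
      ← MonoidAlgebra.one_def, mul_one]
  · simp [D.supp m hm]

include hμ in
theorem lext_outside {z : MonoidAlgebra k G} (hzc : ∀ s, z * s = s * z) {g : G} (W : Subgroup G)
    (hWV : W ≤ V) (hWrange : ∀ w ∈ W, ∃ x ∈ V, w = (g⁻¹ * x * g)⁻¹ * x)
    (hW : Nat.card W ≠ 1) (h4 : p ≠ 2 ∨ 4 ∣ Nat.card W) :
    lext (lfun V θ μ) (z * MonoidAlgebra.single g 1) = 0 := by
  classical
  set y := z * MonoidAlgebra.single g (1 : k) with hy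
  have hinv : ∀ n ∈ N, ∀ w ∈ W, y.coeff (w * n) = y.coeff n := by
    intro n hn w hw
    obtain ⟨x, hx, rfl⟩ := hWrange w hw
    set x' := g⁻¹ * x * g with hx'
    have hx'V : x' ∈ V := by
      have := Subgroup.Normal.conj_mem (inferInstance : V.Normal) x hx g⁻¹
      rwa [inv_inv] at this
    have heq : MonoidAlgebra.single x 1 * y = y * MonoidAlgebra.single x' 1 := by
      rw [hy, ← mul_assoc, ← hzc, mul_assoc, mul_assoc]
      congr 1
      rw [MonoidAlgebra.single_mul_single, MonoidAlgebra.single_mul_single, one_mul, hx']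
      congr 1
      group
    have h1 := congrArg (fun u : MonoidAlgebra k G => u.coeff (x * n)) heq
    simp only [coeff_mul_eq_sum, MonoidAlgebra.coeff_single, Finsupp.single_apply] at h1
    rw [Finset.sum_eq_single x (fun b _ hb => by rw [if_neg (Ne.symm hb), zero_mul])
      (fun hn' => absurd (Finset.mem_univ _) hn'), if_pos rfl, one_mul, inv_mul_cancel_left,
      Finset.sum_eq_single (x'⁻¹ * x * n) (fun b _ hb => by
        rw [if_neg, mul_zero]
        intro hb'
        refine hb ?_
        have hb'' : b = x * n * x'⁻¹ := by rw [hb']; group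
        rw [hb'', ← D.central _ (inv_mem hx'V) _ (N.mul_mem (D.le hx) hn), mul_assoc])
      (fun hn' => absurd (Finset.mem_univ _) hn'), if_pos, mul_one] at h1
    · exact h1.symm
    · rw [mul_assoc, D.central _ (inv_mem hx'V) _ (N.mul_mem (D.le hx) hn)]
      group
  rw [lext_eq_sum]
  let _ := Fintype.ofFinite (G ⧸ W)
  let _ := Fintype.ofFinite W
  have hp0 : ((Fintype.card W : ℕ) : k) = 0 := by
    rw [← Nat.card_eq_fintype_card, CharP.cast_eq_zero_iff k p]
    have hWp : IsPGroup p W := fun w => ⟨1, Subtype.ext (by simpa using D.exp _ (hWV w.2))⟩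
    obtain ⟨j, hj⟩ := IsPGroup.iff_card.mp hWp
    rw [hj]
    exact dvd_pow_self p fun h => hW (by rw [hj, h, pow_zero])
  have hsumμ : ∑ u : W, μ (u : G) = 0 :=
    sum_additive_eq_zero (fun w => Subtype.ext (by simpa using D.exp _ (hWV w.2))) h4 hW _
      fun a b => by simpa using hμ _ (hWV a.2) _ (hWV b.2)
  rw [← Finset.sum_fiberwise Finset.univ (fun x : G => (x : G ⧸ W))]
  refine Finset.sum_eq_zero fun q _ => ?_
  obtain ⟨a, rfl⟩ := QuotientGroup.mk_surjective q
  have hfib : ∑ x ∈ Finset.univ.filter (fun x : G => (x : G ⧸ W) = (a : G ⧸ W)),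
      y.coeff x * lfun V θ μ x = ∑ u : W, y.coeff (a * u) * lfun V θ μ (a * u) := by
    refine (Finset.sum_bij (fun (u : W) _ => a * (u : G)) ?_ ?_ ?_ fun _ _ => rfl).symm
    · intro u _
      exact Finset.mem_filter.mpr ⟨Finset.mem_univ _, (QuotientGroup.eq.mpr (by simp)).symm⟩
    · intro u _ v _ h
      exact Subtype.ext (mul_left_cancel h)
    · intro x hx
      exact ⟨⟨a⁻¹ * x, QuotientGroup.eq.mp (Finset.mem_filter.mp hx).2.symm⟩, Finset.mem_univ _,
        mul_inv_cancel_left _ _⟩
  rw [hfib]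
  by_cases ha : a ∈ N
  · have e1 : ∀ u : W, y.coeff (a * u) * lfun V θ μ (a * u) =
        y.coeff a * (μ (u : G) * θ a) + y.coeff a * lfun V θ μ a := fun u => by
      have hc : a * (u : G) = (u : G) * a := (D.central _ (hWV u.2) _ ha).symm
      rw [hc, hinv a ha _ u.2, D.lfun_mul hμ (hWV u.2), mul_add]
    rw [Finset.sum_congr rfl fun u _ => e1 u, Finset.sum_add_distrib, Finset.sum_const,
      Finset.card_univ, nsmul_eq_mul, hp0, zero_mul, add_zero, ← Finset.mul_sum, ← Finset.sum_mul,
      hsumμ, zero_mul, mul_zero]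
  · refine Finset.sum_eq_zero fun u _ => ?_
    rw [lfun, D.zero_off _ (fun h => ha (by simpa using N.mul_mem h (inv_mem (D.le (hWV u.2))))),
      mul_zero, mul_zero]

include hμ in
/-- The key formula. -/
theorem lext_central_mul {z : MonoidAlgebra k G} (hzc : ∀ s, z * s = s * z) (hz : InAug V z)
    (hout : ∀ g, MonoidAlgebra.single g (1 : k) * e = e * MonoidAlgebra.single g 1 → g ∉ N →
      ∃ W : Subgroup G, W ≤ V ∧ (∀ w ∈ W, ∃ x ∈ V, w = (g⁻¹ * x * g)⁻¹ * x) ∧
        Nat.card W ≠ 1 ∧ (p ≠ 2 ∨ 4 ∣ Nat.card W)) :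
    ∃ c, ∀ u, lext (lfun V θ μ) (z * u * e) = c * lext θ u := by
  obtain ⟨c, hc⟩ : ∃ c, ∀ n ∈ N,
      lext (lfun V θ μ) (z * MonoidAlgebra.single n 1) = c * θ n := by
    refine D.uniq (fun n => lext (lfun V θ μ) (z * MonoidAlgebra.single n 1)) ?_ ?_ ?_
    · intro m hm g
      have h1 := D.lext_conj hμ (inAug_mul_right (MonoidAlgebra.single g 1) hz) hm
      rw [← h1, ← mul_assoc (MonoidAlgebra.single m (1 : k)), ← hzc]
      simp only [mul_assoc, MonoidAlgebra.single_mul_single, one_mul]
    · intro v hv g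
      have h1 : z * MonoidAlgebra.single (v * g) 1 - z * MonoidAlgebra.single g 1 =
          (MonoidAlgebra.single v 1 - 1) * (z * MonoidAlgebra.single g 1) := by
        rw [sub_mul, one_mul, ← mul_assoc, ← hzc, mul_assoc, MonoidAlgebra.single_mul_single, one_mul]
      rw [← sub_eq_zero, ← map_sub, h1, D.lext_gen hμ hv, D.theta_aug (inAug_mul_right _ hz), mul_zero]
    · intro n _
      rw [← D.lext_mul_e hμ (inAug_mul_right (MonoidAlgebra.single n 1) hz), mul_assoc]
      exact linear_ext (φ := lext _) (ψ := (lext (lfun V θ μ)).comp (LinearMap.mulLeft k z))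
        (fun g => by rw [lext_single, LinearMap.comp_apply, LinearMap.mulLeft_apply]) _
  refine ⟨c, fun u => ?_⟩
  refine linear_ext (φ := (lext (lfun V θ μ)).comp
    ((LinearMap.mulRight k e).comp (LinearMap.mulLeft k z))) (ψ := c • lext θ) (fun g => ?_) u
  rw [LinearMap.comp_apply, LinearMap.comp_apply, LinearMap.mulLeft_apply, LinearMap.mulRight_apply,
    LinearMap.smul_apply, lext_single, smul_eq_mul]
  have hy : InAug V (z * MonoidAlgebra.single g 1 * e) := inAug_mul_right _ (inAug_mul_right _ hz)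
  by_cases hst : MonoidAlgebra.single g (1 : k) * e = e * MonoidAlgebra.single g 1
  · rw [D.lext_mul_e hμ (inAug_mul_right _ hz)]
    by_cases hg : g ∈ N
    · exact hc g hg
    · obtain ⟨W, h1, h2, h3, h4⟩ := hout g hst hg
      rw [D.lext_outside hμ hzc W h1 h2 h3 h4, D.zero_off g hg, mul_zero]
  · rw [← D.lext_e_mul hμ hy, ← mul_assoc, ← mul_assoc, ← hzc, mul_assoc z e, mul_assoc z,
      D.orth g hst, mul_zero, map_zero, D.zero_off g (fun hg => hst (D.comm g hg)), mul_zero]

end Data

theorem cjm_single (t g : G) :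
    MonoidAlgebra.mapDomainRingEquiv k (MulAut.conj t) (MonoidAlgebra.single g 1) =
      MonoidAlgebra.single (t * g * t⁻¹) 1 := by
  classical
  refine MonoidAlgebra.coeff_injective (Finsupp.ext fun y => ?_)
  rw [MonoidAlgebra.coeff_mapDomainRingEquiv, Finsupp.equivMapDomain_apply]
  simp only [MonoidAlgebra.coeff_single, Finsupp.single_apply]
  have e : ((MulAut.conj t : G ≃* G) : G ≃ G).symm y = t⁻¹ * y * t := MulAut.conj_symm_apply t y
  rw [e]
  refine if_congr ⟨?_, ?_⟩ rfl rfl
  · rintro rfl; group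
  · rintro rfl; group

theorem cjm_eq_mul (t : G) (x : MonoidAlgebra k G) :
    MonoidAlgebra.mapDomainRingEquiv k (MulAut.conj t) x =
      MonoidAlgebra.single t 1 * x * MonoidAlgebra.single t⁻¹ 1 := by
  induction x using MonoidAlgebra.induction_linear with
  | zero => simp
  | add a b ha hb => rw [map_add, ha, hb, mul_add, add_mul]
  | single g c =>
    classical
    rw [MonoidAlgebra.single_mul_single, MonoidAlgebra.single_mul_single, one_mul, mul_one]
    refine MonoidAlgebra.coeff_injective (Finsupp.ext fun y => ?_)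
    rw [MonoidAlgebra.coeff_mapDomainRingEquiv, Finsupp.equivMapDomain_apply]
    simp only [MonoidAlgebra.coeff_single, Finsupp.single_apply]
    have e : ((MulAut.conj t : G ≃* G) : G ≃ G).symm y = t⁻¹ * y * t := MulAut.conj_symm_apply t y
    rw [e]
    refine if_congr ⟨?_, ?_⟩ rfl rfl
    · rintro rfl; group
    · rintro rfl; group

/-- Separation by additive functionals. -/
theorem exists_additive_ne (k : Type*) [Field k] [CharP k p] {V : Subgroup G}
    (hV : ∀ a ∈ V, ∀ b ∈ V, a * b = b * a) (hexp : ∀ v ∈ V, v ^ p = 1) {a b : G} (ha : a ∈ V)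
    (hb : b ∈ V) (hne : a ≠ b) :
    ∃ μ : G → k, (∀ x ∈ V, ∀ y ∈ V, μ (x * y) = μ x + μ y) ∧ μ a ≠ μ b := by
  classical
  set u := a * b⁻¹ with hu
  have huV : u ∈ V := V.mul_mem ha (inv_mem hb)
  have hu1 : u ≠ 1 := fun h => hne (mul_inv_eq_one.mp h)
  -- a subgroup maximal among those of `V` avoiding `u`
  obtain ⟨K, ⟨hKV, huK⟩, hmax⟩ := Set.Finite.exists_maximal
    (Set.toFinite {K : Subgroup G | K ≤ V ∧ u ∉ K}) ⟨⊥, bot_le, fun h => hu1 (Subgroup.mem_bot.mp h)⟩
  have hupow : ∀ j : ℤ, u ^ j ∈ K → (p : ℤ) ∣ j := by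
    intro j hj
    by_contra hnd
    obtain ⟨x, y, hxy⟩ := ((Nat.prime_iff_prime_int.mp hp.out).coprime_iff_not_dvd.mpr hnd)
    apply huK
    have : u = (u ^ (p : ℤ)) ^ x * (u ^ j) ^ y := by
      rw [← zpow_mul, ← zpow_mul, ← zpow_add, mul_comm (p : ℤ) x, mul_comm j y, hxy, zpow_one]
    rw [this, zpow_natCast, hexp u huV, one_zpow, one_mul]
    exact zpow_mem hj _
  have hdec : ∀ w ∈ V, ∃ i : ℤ, w * u ^ i ∈ K := by
    intro w hw
    by_cases hwK : w ∈ K
    · exact ⟨0, by simpa using hwK⟩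
    set L := K ⊔ Subgroup.zpowers w with hL
    have hLV : L ≤ V := sup_le hKV (Subgroup.zpowers_le.mpr hw)
    have huL : u ∈ L := by
      by_contra h
      exact hwK (hmax (y := L) ⟨hLV, h⟩ le_sup_left ((le_sup_right : _ ≤ L) (Subgroup.mem_zpowers w)))
    have hnorm : Subgroup.zpowers w ≤ Subgroup.normalizer (K : Set G) := by
      intro y hy
      have hyV : y ∈ V := (Subgroup.zpowers_le.mpr hw) hy
      refine Subgroup.mem_normalizer_iff.mpr fun z => ⟨fun hz => ?_, fun hz => ?_⟩
      · rw [hV y hyV z (hKV hz), mul_inv_cancel_right]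
        exact hz
      · have hz' : z ∈ V := by
          have := V.mul_mem (V.mul_mem (inv_mem hyV) (hKV hz)) hyV
          simpa [mul_assoc] using this
        rwa [hV y hyV z hz', mul_inv_cancel_right] at hz
    rw [hL, ← SetLike.mem_coe, Subgroup.coe_mul_of_right_le_normalizer_left K _ hnorm] at huL
    obtain ⟨k₁, hk₁, _, hj, hkj⟩ := huL
    obtain ⟨j, rfl⟩ := Subgroup.mem_zpowers_iff.mp hj
    replace hkj : k₁ * w ^ j = u := hkj
    have hnd : ¬ (p : ℤ) ∣ j := fun ⟨l, hl⟩ => huK (by
      rw [← hkj, hl, zpow_mul, zpow_natCast, hexp w hw, one_zpow, mul_one]; exact hk₁)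
    obtain ⟨x, y, hxy⟩ := ((Nat.prime_iff_prime_int.mp hp.out).coprime_iff_not_dvd.mpr hnd)
    refine ⟨-y, ?_⟩
    have hw' : w = (w ^ j) ^ y := by
      have : w = (w ^ (p : ℤ)) ^ x * (w ^ j) ^ y := by
        rw [← zpow_mul, ← zpow_mul, ← zpow_add, mul_comm (p : ℤ) x, mul_comm j y, hxy, zpow_one]
      rwa [zpow_natCast, hexp w hw, one_zpow, one_mul] at this
    have hc : Commute k₁ (w ^ j) := hV _ (hKV hk₁) _ (zpow_mem hw j)
    rw [hw', ← hkj, hc.mul_zpow, zpow_neg, zpow_neg]
    have hc2 : Commute ((w ^ j) ^ y) (k₁ ^ y)⁻¹ := ((hc.symm.zpow_left y).zpow_right y).inv_right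
    rw [show (w ^ j) ^ y * ((k₁ ^ y)⁻¹ * ((w ^ j) ^ y)⁻¹) = (k₁ ^ y)⁻¹ by
      rw [← mul_assoc, hc2.eq, mul_inv_cancel_right]]
    exact inv_mem (zpow_mem hk₁ y)
  choose i hi using hdec
  have huniq : ∀ (w : G), ∀ j j' : ℤ, w * u ^ j ∈ K → w * u ^ j' ∈ K → (j : k) = (j' : k) := by
    intro w j j' h1 h2
    obtain ⟨l, hl⟩ := hupow (j' - j) (by
      have := K.mul_mem (inv_mem h1) h2
      rwa [mul_inv_rev, mul_assoc, inv_mul_cancel_left, ← zpow_neg, ← zpow_add,
        show -j + j' = j' - j by ring] at this)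
    rw [eq_comm, ← sub_eq_zero, ← Int.cast_sub, hl, Int.cast_mul, Int.cast_natCast, CharP.cast_eq_zero,
      zero_mul]
  refine ⟨fun g => if hg : g ∈ V then ((i g hg : ℤ) : k) else 0, fun x hx y hy => ?_, fun h => ?_⟩
  · simp only [dif_pos (V.mul_mem hx hy), dif_pos hx, dif_pos hy]
    rw [← Int.cast_add]
    refine huniq (x * y) _ _ (hi _ _) ?_
    have hc : y * u ^ i x hx = u ^ i x hx * y := hV _ hy _ (zpow_mem huV _)
    have e : x * y * u ^ (i x hx + i y hy) = x * u ^ i x hx * (y * u ^ i y hy) := by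
      rw [zpow_add, ← mul_assoc, mul_assoc x y, hc]
      group
    rw [e]
    exact K.mul_mem (hi x hx) (hi y hy)
  · simp only [dif_pos ha, dif_pos hb] at h
    have e : b * u ^ (i a ha + 1) = a * u ^ i a ha := by
      rw [add_comm, zpow_add, zpow_one, ← mul_assoc, hV b hb u huV, hu, inv_mul_cancel_right]
    have h2 := huniq b _ _ (hi b hb) (e ▸ hi a ha)
    rw [Int.cast_add, Int.cast_one, ← h] at h2
    exact one_ne_zero (left_eq_add.mp h2)

/-- **The core**: the stabiliser of `e` centralises `V`. -/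
theorem commute_of_decomp (D : Data p V N θ e)
    (hout : ∀ g, MonoidAlgebra.single g (1 : k) * e = e * MonoidAlgebra.single g 1 → g ∉ N →
      ∃ W : Subgroup G, W ≤ V ∧ (∀ w ∈ W, ∃ x ∈ V, w = (g⁻¹ * x * g)⁻¹ * x) ∧
        Nat.card W ≠ 1 ∧ (p ≠ 2 ∨ 4 ∣ Nat.card W))
    (hdec : ∀ r, InAug V r → r * e = r → ∃ (ι : Type) (_ : Fintype ι)
      (z u : ι → MonoidAlgebra k G), (∀ i s, z i * s = s * z i) ∧ (∀ i, InAug V (z i)) ∧
        r = ∑ i, z i * u i)
    {t : G} (ht : MonoidAlgebra.single t (1 : k) * e = e * MonoidAlgebra.single t 1) (hee : e * e = e)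
    {x : G} (hx : x ∈ V) : t * x = x * t := by
  by_contra hne
  have hx' : t * x * t⁻¹ ∈ V := Subgroup.Normal.conj_mem inferInstance x hx t
  obtain ⟨μ, hμ, hμne⟩ := exists_additive_ne (p := p) k (fun a ha b hb => D.central a ha b (D.le hb))
    D.exp hx' hx fun h => hne (by
      calc t * x = t * x * t⁻¹ * t := by group
        _ = x * t := by rw [h])
  obtain ⟨n₀, hn₀, hθ⟩ := D.ne_zero
  set σ := MonoidAlgebra.mapDomainRingEquiv k (MulAut.conj t) with hσ
  have hσe : σ e = e := by
    rw [hσ, cjm_eq_mul, ht, mul_assoc, MonoidAlgebra.single_mul_single, mul_inv_cancel, one_mul,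
      ← MonoidAlgebra.one_def, mul_one]
  -- `θ` composed with conjugation
  have hθσ : ∀ y, lext (fun g => θ (t * g * t⁻¹)) y = lext θ (σ y) := by
    intro y
    induction y using MonoidAlgebra.induction_linear with
    | zero => simp
    | add a b ha hb => rw [map_add, map_add, map_add, ha, hb]
    | single g c =>
      rw [show MonoidAlgebra.single g c = c • MonoidAlgebra.single g (1 : k) by
        rw [MonoidAlgebra.smul_single', mul_one]]
      rw [map_smul, lext_single, hσ, cjm_eq_mul, mul_smul_comm, smul_mul_assoc, map_smul,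
        MonoidAlgebra.single_mul_single, MonoidAlgebra.single_mul_single, one_mul, mul_one, lext_single]
  obtain ⟨c, hc⟩ := D.uniq (fun g => θ (t * g * t⁻¹))
    (fun m hm g => by
      show θ (t * (m * g * m⁻¹) * t⁻¹) = θ (t * g * t⁻¹)
      rw [← D.cls (t * m * t⁻¹) (Subgroup.Normal.conj_mem inferInstance m hm t) (t * g * t⁻¹)]
      congr 1; group)
    (fun v hv g => by
      show θ (t * (v * g) * t⁻¹) = θ (t * g * t⁻¹)
      rw [← D.inv (t * v * t⁻¹) (Subgroup.Normal.conj_mem inferInstance v hv t) (t * g * t⁻¹)]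
      congr 1; group)
    (fun n hn => by
      rw [hθσ, map_mul, hσe, hσ, cjm_single]
      exact D.fix _ (Subgroup.Normal.conj_mem inferInstance n hn t))
  have hall : ∀ g, θ (t * g * t⁻¹) = c * θ g := fun g => by
    by_cases hg : g ∈ N
    · exact hc g hg
    · rw [D.zero_off g hg, mul_zero, D.zero_off]
      intro h
      apply hg
      have := Subgroup.Normal.conj_mem (inferInstance : N.Normal) _ h t⁻¹
      simpa [mul_assoc] using this
  have hcθ : ∀ y, lext θ (σ y) = c * lext θ y := fun y => by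
    rw [← hθσ, lext_eq_sum, lext_eq_sum, Finset.mul_sum]
    exact Finset.sum_congr rfl fun g _ => by rw [hall]; ring
  -- the element
  set r : MonoidAlgebra k G := (MonoidAlgebra.single x 1 - 1) * (MonoidAlgebra.single n₀ 1 * e) with hr
  have hrA : InAug V r := by
    rw [hr, sub_mul, one_mul, ← mul_assoc, MonoidAlgebra.single_mul_single, one_mul, ← sub_mul]
    exact inAug_mul_right _ (inAug_gen hx n₀)
  have hre : r * e = r := by rw [hr, mul_assoc, mul_assoc, hee]
  obtain ⟨ι, hι, z, u, hzc, hzA, hsum⟩ := hdec r hrA hre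
  choose cz hcz using fun i => D.lext_central_mul hμ (hzc i) (hzA i) hout
  have h1 : lext (lfun V θ μ) r = ∑ i, cz i * lext θ (u i) := by
    conv_lhs => rw [← hre, hsum, Finset.sum_mul, map_sum]
    exact Finset.sum_congr rfl fun i _ => hcz i (u i)
  have hσz : ∀ i, σ (z i) = z i := fun i => by
    rw [hσ, cjm_eq_mul, ← hzc, mul_assoc, MonoidAlgebra.single_mul_single, mul_inv_cancel, one_mul,
      ← MonoidAlgebra.one_def, mul_one]
  have hσre : σ r * e = σ r := by
    have := congrArg σ hre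
    rwa [map_mul, hσe] at this
  have h2 : lext (lfun V θ μ) (σ r) = c * lext (lfun V θ μ) r := by
    rw [h1, Finset.mul_sum, ← hσre, hsum, map_sum, Finset.sum_mul, map_sum]
    refine Finset.sum_congr rfl fun i _ => ?_
    rw [map_mul σ, hσz, hcz, hcθ]
    ring
  have h3 : lext (lfun V θ μ) r = μ x * θ n₀ := by
    rw [hr, D.lext_gen hμ hx, D.fix n₀ hn₀]
  have h4 : lext (lfun V θ μ) (σ r) = μ (t * x * t⁻¹) * (c * θ n₀) := by
    rw [hr, map_mul, map_sub, map_one]
    have e1 : σ (MonoidAlgebra.single x 1) = MonoidAlgebra.single (t * x * t⁻¹) 1 := cjm_single t x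
    rw [e1, D.lext_gen hμ hx', hcθ, D.fix n₀ hn₀]
  have hc0 : c ≠ 0 := fun h0 => by
    have := hall (t⁻¹ * n₀ * t)
    rw [h0, zero_mul, show t * (t⁻¹ * n₀ * t) * t⁻¹ = n₀ by group] at this
    exact hθ this
  rw [h3, h4] at h2
  refine hμne (mul_right_cancel₀ (mul_ne_zero hc0 hθ) ?_)
  rw [h2]
  ring

end CfsgLib.CharBlocks.EqualDegree
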