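import Cfsg.Agent.Lib.CharBlocks.EqualDegree.Push
import Cfsg.Agent.Lib.CharBlocks.EqualDegree.Functional
import Cfsg.Agent.Lib.BlockArith.AugmentationNilpotent
import Cfsg.Agent.Lib.FGS.FreeOverComplement

/-!
# A block all of whose characters have the degree of its characters of defect zero modulo `V`

* `exists_units`: matrix units in `k[H]` for a sum of blocks of defect zero and equal degree;
* `exists_decomp`: the decomposition into centre times finitely many elements.
-/

set_option autoImplicit false
set_option linter.unusedSectionVars false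

noncomputable section

namespace CfsgLib.CharBlocks.EqualDegree

open Cfsg CfsgLib.Blocks CfsgLib.BrauerPairs CfsgLib.DefectZero
open scoped Matrix

attribute [local instance] CfsgLib.Blocks.resField
set_option synthInstance.maxHeartbeats 200000

variable {M : Ideal AlgInt} [M.IsMaximal] {p m : ℕ}

/-- Matrix units. -/
theorem exists_units {H : Type*} [Group H] [Fintype H] (hM : IsPModular p M) {b : Zint M H}
    (hb : b * b = b) (hdeg : ∀ ψ : IrrCharacter H, zomega ψ b = 1 → charDegree (ψ : H → ℂ) = m + 1)
    (hdvd : p ^ (Nat.card H).factorization p ∣ m + 1) :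
    ∃ E : Fin (m + 1) → Fin (m + 1) → MonoidAlgebra (Res M) H,
      (∀ i j k l, E i j * E k l = if j = k then E i l else 0) ∧ ∑ i, E i i = red b := by
  classical
  have hred : red b * red b = red b := by rw [← map_mul, hb]
  let ι := {B : Set (IrrCharacter H) // IsPBlock M B ∧ ∃ hB : IsPBlock M B, red b * ridem hB = ridem hB}
  let _ : Fintype ι := Fintype.ofFinite _
  have hrep : ∀ i : ι, ∃ θ : IrrCharacter H, i.1 = {θ} ∧ charDegree (θ : H → ℂ) = m + 1 := by
    intro i
    obtain ⟨hB, h⟩ := i.2.2
    obtain ⟨θ, hθ⟩ := IsPBlock.nonempty hB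
    have h1 : bomega θ b = 1 := (bomega_eq_one_iff (by rw [hb]) hB hθ).mpr h
    have h2 : zomega θ b = 1 := (bomega_zero_or_one hb θ).resolve_left fun h0 => by
      rw [bomega_apply, h0, map_zero] at h1
      exact zero_ne_one h1
    exact ⟨θ, (isPBlock_eq_blockOf hB hθ).trans (blockOf_singleton_of_dvd hM (hdeg θ h2) hdvd),
      hdeg θ h2⟩
  choose θ hθs hθd using hrep
  choose A hA using fun i => exists_form hM (θ i) (hθd i)
  have hform : ∀ i, IsZeroDefectForm (res M) p ((θ i : IrrCharacter H) : H → ℂ) (A i) := fun i =>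
    isZeroDefectForm_of hM (hθd i) hdvd (A i) (hA i)
  have hsum : ∀ i : ι, ∑ j, mu (A i) j j = ridem i.2.1 := by
    intro i
    have hB : IsPBlock M ({θ i} : Set (IrrCharacter H)) := hθs i ▸ i.2.1
    rw [sum_mu (hform i) (θ i) rfl hB]
    exact congrArg red (Subtype.ext (by simp only [idem]; rw [hθs i]))
  have hright : ∀ i j k, mu (A i) j k * ridem i.2.1 = mu (A i) j k := by
    intro i j k
    rw [← hsum i, Finset.mul_sum, Finset.sum_eq_single k (fun l _ hl => by
      rw [mu_mul_mu (hform i), if_neg (Ne.symm hl)]) (fun hn => absurd (Finset.mem_univ _) hn),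
      mu_mul_mu (hform i), if_pos rfl]
  have hleft : ∀ i j k, ridem i.2.1 * mu (A i) j k = mu (A i) j k := by
    intro i j k
    rw [← hsum i, Finset.sum_mul, Finset.sum_eq_single j (fun l _ hl => by
      rw [mu_mul_mu (hform i), if_neg hl]) (fun hn => absurd (Finset.mem_univ _) hn),
      mu_mul_mu (hform i), if_pos rfl]
  refine ⟨fun i j => ∑ t : ι, mu (A t) i j, fun i j k l => ?_, ?_⟩
  · rw [Finset.sum_mul]
    have e : ∀ t : ι, mu (A t) i j * ∑ t' : ι, mu (A t') k l =
        if j = k then mu (A t) i l else 0 := by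
      intro t
      rw [Finset.mul_sum, Finset.sum_eq_single t, mu_mul_mu (hform t)]
      · intro t' _ ht'
        rw [← hright t i j, ← hleft t' k l, mul_assoc, ← mul_assoc (ridem t.2.1),
          ridem_mul_of_ne t.2.1 t'.2.1 (fun h => ht' (Subtype.ext h.symm)), zero_mul, mul_zero]
      · exact fun hn => absurd (Finset.mem_univ _) hn
    rw [Finset.sum_congr rfl fun t _ => e t]
    split_ifs with h
    · rfl
    · exact Finset.sum_const_zero
  · rw [Finset.sum_comm, Finset.sum_congr rfl fun t _ => hsum t]
    exact (eq_sum_ridem (fun g h => rcoeff_eq_of_isConj b ((isConj_iff.mpr ⟨h, rfl⟩).symm)) hred).symm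

variable {G : Type*} [Group G] [Fintype G] {V : Subgroup G} [V.Normal]

/-- The reduced matrices of an integral representation. -/
def repR {n : ℕ} (A : G →* Matrix (Fin n) (Fin n) (locRing M)) :
    MonoidAlgebra (Res M) G →ₐ[Res M] Matrix (Fin n) (Fin n) (Res M) :=
  MonoidAlgebra.lift (Res M) (Matrix (Fin n) (Fin n) (Res M)) G
    (((res M).mapMatrix : Matrix (Fin n) (Fin n) (locRing M) →+* _).toMonoidHom.comp A)

theorem repR_redO {n : ℕ} (A : G →* Matrix (Fin n) (Fin n) (locRing M)) (x : OG M G) :
    repR A (redO M G x) =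
      (MonoidAlgebra.lift (locRing M) (Matrix (Fin n) (Fin n) (locRing M)) G A x).map (res M) := by
  induction x using MonoidAlgebra.induction_linear with
  | zero => simp
  | add a b ha hb =>
    rw [map_add, map_add, ha, hb, map_add, Matrix.map_add _ (map_add (res M))]
  | single g c =>
    rw [redO, MonoidAlgebra.mapRingHom_single, repR, MonoidAlgebra.lift_single, MonoidAlgebra.lift_single]
    ext i j
    simp

theorem red_commute (a : Zint M G) (s : MonoidAlgebra (Res M) G) : red a * s = s * red a :=
  (Subsemiring.mem_center_iff.mp (red_mem_center a) s).symm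

variable [hp : Fact p.Prime]

set_option maxHeartbeats 1000000 in
/-- **The decomposition.** -/
theorem exists_decomp (hM : IsPModular p M) (hV : IsPGroup p V) {a : Zint M G} (ha : a * a = a)
    (hdeg : ∀ χ : IrrCharacter G, zomega χ a = 1 → charDegree (χ : G → ℂ) = m + 1)
    (hdvd : p ^ (Nat.card (G ⧸ V)).factorization p ∣ m + 1)
    (r : MonoidAlgebra (Res M) G) (hr : InAug V r) (hre : r * red a = r) :
    ∃ (ι : Type) (_ : Fintype ι) (z u : ι → MonoidAlgebra (Res M) G),
      (∀ i s, z i * s = s * z i) ∧ (∀ i, InAug V (z i)) ∧ r = ∑ i, z i * u i := by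
  classical
  have : CharP (Res M) p := res_charP M hM
  have : Infinite (Res M) := CfsgLib.Modular.infinite_res
  let _ := Fintype.ofFinite (G ⧸ V)
  let π := MonoidAlgebra.mapDomainRingHom (Res M) (QuotientGroup.mk' V)
  have hπs : Function.Surjective π := by
    intro y
    refine ⟨MonoidAlgebra.mapDomain Quotient.out y, ?_⟩
    induction y using MonoidAlgebra.induction_linear with
    | zero => simp
    | add u v hu hv => rw [MonoidAlgebra.mapDomain_add, map_add, hu, hv]
    | single q c =>
      show MonoidAlgebra.mapDomain _ (MonoidAlgebra.mapDomain _ (MonoidAlgebra.single q c)) = _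
      rw [MonoidAlgebra.mapDomain_single, MonoidAlgebra.mapDomain_single]
      exact congrArg (fun z => MonoidAlgebra.single z c) (QuotientGroup.out_eq' q)
  obtain ⟨b, hbc, hbred, hbom⟩ := exists_push (QuotientGroup.mk' V) (QuotientGroup.mk'_surjective V) a
  obtain ⟨E, hE, hEsum⟩ := exists_units (m := m) hM (mapDomain_mul_self ha hbc) (fun ψ hψ => by
    have h := hdeg ⟨_, CfsgLib.CharNormal.isIrr_comp_mk' V ψ.2⟩ (by
      rw [← hbom ψ ⟨_, CfsgLib.CharNormal.isIrr_comp_mk' V ψ.2⟩ rfl, hψ])
    rw [← h]
    show charDegree (ψ : G ⧸ V → ℂ) = charDegree ((ψ : G ⧸ V → ℂ) ∘ QuotientGroup.mk)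
    simp [charDegree]) hdvd
  choose ae haeK using fun i j => hπs (E i j)
  choose aO haO using fun i j => redO_surjective (M := M) (G := G) (ae i j)
  -- integral forms
  choose n A hA using fun χ : IrrCharacter G => CfsgLib.Modular.exists_integral_rep hM χ
  set EO := toOG a with hEO
  set ē := red a with hē
  have hEOred : redO M G EO = ē := redO_toOG a
  -- the characters of the block
  have hpoly : ∀ χ : IrrCharacter G, zomega χ a = 1 → ∃ q : Polynomial (locRing M),
      q.map (res M) = Polynomial.X ^ m ∧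
      ∀ y : OG M G, RankOne (repO (A χ) (Polynomial.aeval (aO 0 0) q * y)) := by
    intro χ hχ
    have hn : n χ = m + 1 := by
      have h := hA χ 1
      rw [map_one, Matrix.trace_one, Fintype.card_fin,
        CfsgLib.Blocks.charDegree_eq (CfsgLib.Char.isCharacter_of_isIrr χ.2), hdeg χ hχ] at h
      exact_mod_cast h
    obtain ⟨A', hA'⟩ : ∃ A' : G →* Matrix (Fin (m + 1)) (Fin (m + 1)) (locRing M),
        (∀ g, (((A' g).trace : locRing M) : ℂ) = (χ : G → ℂ) g) ∧
        ∀ x : OG M G, RankOne (repO A' x) → RankOne (repO (A χ) x) := by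
      have key : ∀ (k : ℕ) (hk : k = m + 1) (B : G →* Matrix (Fin k) (Fin k) (locRing M)),
          (∀ g, (((B g).trace : locRing M) : ℂ) = (χ : G → ℂ) g) →
          ∃ A' : G →* Matrix (Fin (m + 1)) (Fin (m + 1)) (locRing M),
            (∀ g, (((A' g).trace : locRing M) : ℂ) = (χ : G → ℂ) g) ∧
            ∀ x : OG M G, RankOne (repO A' x) → RankOne (repO B x) := by
        intro k hk B hB
        subst hk
        exact ⟨B, hB, fun x h => h⟩
      exact key _ hn (A χ) (hA χ)
    obtain ⟨hA', hback⟩ := hA'
    -- the reduction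
    set R := repR (M := M) A' with hR
    have hRē : R ē = 1 := by
      rw [← hEOred, hR, repR_redO]
      have h1 := (repO_toOG A' hA' ha).2 hχ
      have h2 : MonoidAlgebra.lift (locRing M) (Matrix (Fin (m + 1)) (Fin (m + 1)) (locRing M)) G A' EO = 1 := by
        apply Matrix.map_injective (f := (locRing M).subtype) Subtype.val_injective
        simp only [Matrix.map_one _ (map_zero _) (map_one _)]
        exact h1
      rw [h2, Matrix.map_one _ (map_zero _) (map_one _)]
    obtain ⟨w, hw0, hwfix⟩ := CfsgLib.FGS.FreeCompl.exists_fixed_of_pGroup (k := Res M)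
      (U := Fin (m + 1) → Res M) hV ((redForm (res M) A').comp V.subtype)
    have hgact : ∀ (g : G) (v : Fin (m + 1) → Res M),
        R (MonoidAlgebra.single g 1) *ᵥ v = redForm (res M) A' g v := by
      intro g v
      rw [hR, repR, MonoidAlgebra.lift_single, one_smul]
      rfl
    -- vectors fixed by `V`
    let Fix : (Fin (m + 1) → Res M) → Prop := fun v => ∀ x ∈ V, R (MonoidAlgebra.single x 1) *ᵥ v = v
    have hfixw : Fix w := fun x hx => by rw [hgact]; exact hwfix ⟨x, hx⟩
    have hfixg : ∀ v, Fix v → ∀ y, Fix (R y *ᵥ v) := by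
      intro v hv y
      induction y using MonoidAlgebra.induction_linear with
      | zero => intro x _; simp
      | add y₁ y₂ h₁ h₂ =>
        intro x hx
        rw [map_add, Matrix.add_mulVec, Matrix.mulVec_add, h₁ x hx, h₂ x hx]
      | single g c =>
        intro x hx
        rw [show MonoidAlgebra.single g c = c • MonoidAlgebra.single g (1 : Res M) by
          rw [MonoidAlgebra.smul_single', mul_one], map_smul, Matrix.smul_mulVec, Matrix.mulVec_smul]
        congr 1
        rw [Matrix.mulVec_mulVec, ← map_mul, MonoidAlgebra.single_mul_single, one_mul,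
          show x * g = g * (g⁻¹ * x * g) by group, ← one_mul (1 : Res M),
          ← MonoidAlgebra.single_mul_single, one_mul, map_mul, ← Matrix.mulVec_mulVec,
          hv _ (by have := Subgroup.Normal.conj_mem (inferInstance : V.Normal) x hx g⁻¹; rwa [inv_inv] at this)]
    have hker : ∀ v, Fix v → ∀ y, π y = 0 → R y *ᵥ v = 0 := by
      intro v hv y hy
      rw [eq_sum_gen (V := V) (show InAug V y from hy), map_sum, Matrix.sum_mulVec]
      refine Finset.sum_eq_zero fun g _ => ?_
      rw [map_smul, Matrix.smul_mulVec]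
      refine smul_eq_zero_of_right _ ?_
      rw [map_sub, Matrix.sub_mulVec, sub_eq_zero]
      have e : MonoidAlgebra.single g (1 : Res M) = MonoidAlgebra.single (g * (rep V g)⁻¹) 1 *
          MonoidAlgebra.single (rep V g) 1 := by
        rw [MonoidAlgebra.single_mul_single, one_mul, inv_mul_cancel_right]
      rw [e, map_mul, ← Matrix.mulVec_mulVec]
      exact hfixg v hv _ _ (div_rep_mem V g)
    have hcongr : ∀ v, Fix v → ∀ y y', π y = π y' → R y *ᵥ v = R y' *ᵥ v := by
      intro v hv y y' h
      have := hker v hv (y - y') (by rw [map_sub, h, sub_self])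
      rwa [map_sub, Matrix.sub_mulVec, sub_eq_zero] at this
    have hunit : ∀ v, Fix v → ∀ i j k l, R (ae i j) *ᵥ (R (ae k l) *ᵥ v) =
        if j = k then R (ae i l) *ᵥ v else 0 := by
      intro v hv i j k l
      rw [Matrix.mulVec_mulVec, ← map_mul]
      split_ifs with h
      · exact hcongr v hv _ _ (by rw [map_mul, haeK, haeK, haeK, hE, if_pos h])
      · rw [hcongr v hv _ 0 (by rw [map_mul, haeK, haeK, hE, if_neg h, map_zero]), map_zero,
          Matrix.zero_mulVec]
    have hone : ∀ v, Fix v → ∑ k, R (ae k k) *ᵥ v = v := by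
      intro v hv
      rw [← Matrix.sum_mulVec, ← map_sum, hcongr v hv _ ē (by
        rw [map_sum, Finset.sum_congr rfl fun k _ => haeK k k, hEsum, hbred]), hRē, Matrix.one_mulVec]
    obtain ⟨k₀, hk₀⟩ : ∃ k, R (ae 0 k) *ᵥ w ≠ 0 := by
      by_contra hall
      push Not at hall
      apply hw0
      rw [← hone w hfixw]
      refine Finset.sum_eq_zero fun k _ => ?_
      rw [← (hunit w hfixw k 0 0 k).trans (if_pos rfl), hall k, Matrix.mulVec_zero]
    set v₀ := R (ae 0 k₀) *ᵥ w with hv₀
    let bv : Fin (m + 1) → (Fin (m + 1) → Res M) := fun i => R (ae i k₀) *ᵥ w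
    have hbv : ∀ i j l, R (ae i j) *ᵥ bv l = if j = l then bv i else 0 := fun i j l =>
      hunit w hfixw i j l k₀
    have hli : LinearIndependent (Res M) bv := by
      rw [Fintype.linearIndependent_iff]
      intro c hc i
      have h := congrArg (fun v => R (ae 0 i) *ᵥ v) hc
      simp only [Matrix.mulVec_sum, Matrix.mulVec_smul, hbv, Matrix.mulVec_zero, smul_ite, smul_zero,
        Finset.sum_ite_eq, Finset.mem_univ, if_true] at h
      exact (smul_eq_zero.mp h).resolve_right hk₀
    let bas := basisOfLinearIndependentOfCardEqFinrank hli (by simp)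
    have hbas : ∀ i, bas i = bv i := fun i => by simp [bas]
    have hallfix : ∀ v, Fix v := by
      intro v x hx
      rw [← bas.sum_repr v, Matrix.mulVec_sum]
      refine Finset.sum_congr rfl fun i _ => ?_
      rw [Matrix.mulVec_smul, hbas]
      congr 1
      exact hfixg w hfixw _ x hx
    set P : (Fin (m + 1) → Res M) →ₗ[Res M] (Fin (m + 1) → Res M) := Matrix.toLin' (R (ae 0 0)) with hP
    have hPP : P * P = P := LinearMap.ext fun v => by
      rw [Module.End.mul_apply, hP, Matrix.toLin'_apply, Matrix.toLin'_apply, hunit v (hallfix v),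
        if_pos rfl]
    have hrange : LinearMap.range P = Submodule.span (Res M) {bv 0} := by
      refine le_antisymm ?_ ?_
      · rintro _ ⟨v, rfl⟩
        rw [← bas.sum_repr v, map_sum]
        refine Submodule.sum_mem _ fun i _ => ?_
        rw [map_smul, hP, Matrix.toLin'_apply, hbas, hbv]
        split_ifs
        · exact Submodule.smul_mem _ _ (Submodule.mem_span_singleton_self _)
        · simp
      · rw [Submodule.span_le, Set.singleton_subset_iff]
        exact ⟨bv 0, by rw [hP, Matrix.toLin'_apply, hbv, if_pos rfl]⟩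
    have hrk : Module.finrank (Res M) (LinearMap.range P) = 1 := by
      rw [hrange]
      exact finrank_span_singleton (hli.ne_zero 0)
    have hquot : Module.finrank (Res M) ((Fin (m + 1) → Res M) ⧸ LinearMap.range P) = m := by
      have := Submodule.finrank_quotient_add_finrank (LinearMap.range P)
      rw [hrk, Module.finrank_fintype_fun_eq_card, Fintype.card_fin] at this
      omega
    set B := MonoidAlgebra.lift (locRing M) (Matrix (Fin (m + 1)) (Fin (m + 1)) (locRing M)) G A'
      (aO 0 0) with hB
    have hBchar : B.charpoly.map (res M) = (Polynomial.X - 1) * Polynomial.X ^ m := by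
      have e : B.map (res M) = R (ae 0 0) := by rw [hB, ← repR_redO, haO]
      rw [← Matrix.charpoly_map, e, ← Matrix.charpoly_toLin', ← hP, CfsgLib.Blocks.SmallBlock.charpoly_proj hPP, hrk, hquot, pow_one]
    obtain ⟨q, hq, hq'⟩ := exists_rankOne_poly B hBchar
    refine ⟨q, hq, fun y => hback _ ?_⟩
    show RankOne ((MonoidAlgebra.lift (locRing M) (Matrix (Fin (m + 1)) (Fin (m + 1)) (locRing M)) G A'
      (Polynomial.aeval (aO 0 0) q * y)).map (locRing M).subtype)
    rw [map_mul, ← Polynomial.aeval_algHom_apply]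
    exact hq' _
  choose q hq hq' using hpoly
  let S := {χ : IrrCharacter G // zomega χ a = 1}
  let Q : Polynomial (locRing M) := ∏ χ : S, q χ.1 χ.2
  set f : OG M G := Polynomial.aeval (aO 0 0) Q * aO 0 0 * EO with hf
  have hfrank : ∀ χ, RankOne (repO (A χ) f) := by
    intro χ
    rcases bomega_zero_or_one ha χ with h0 | h1
    · rw [hf, map_mul, (repO_toOG (A χ) (hA χ) ha).1 h0, mul_zero]
      exact rankOne_zero
    · rw [hf, show Q = q χ h1 * ∏ χ' ∈ Finset.univ.erase (⟨χ, h1⟩ : S), q χ'.1 χ'.2 from
        (Finset.mul_prod_erase Finset.univ _ (Finset.mem_univ (⟨χ, h1⟩ : S))).symm,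
        map_mul (Polynomial.aeval (aO 0 0)), mul_assoc, mul_assoc]
      exact hq' χ h1 _
  set fb := redO M G f with hfb
  have hQ : ∃ N : ℕ, Q.map (res M) = Polynomial.X ^ N := by
    refine ⟨∑ _χ : S, m, ?_⟩
    rw [Polynomial.map_prod, Finset.prod_congr rfl fun χ _ => hq χ.1 χ.2, Finset.prod_pow_eq_pow_sum]
  obtain ⟨N, hN⟩ := hQ
  have hfbe : fb = ae 0 0 ^ N * ae 0 0 * ē := by
    rw [hfb, hf, map_mul, map_mul, haO, hEOred]
    congr 2
    rw [Polynomial.aeval_def, Polynomial.hom_eval₂, haO]
    have e : (redO M G).comp (algebraMap (locRing M) (OG M G)) =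
        (algebraMap (Res M) (MonoidAlgebra (Res M) G)).comp (res M) := by
      ext c : 1
      simp [redO]
    rw [e, ← Polynomial.eval₂_map, hN, Polynomial.eval₂_X_pow]
  have hēid : ē * ē = ē := by rw [hē, ← map_mul, ha]
  have hfe : fb * ē = fb := by rw [hfbe, mul_assoc, hēid]
  have hπē : π ē = red b := hbred.symm
  have hbleft : ∀ i j, E i j * red b = E i j := by
    intro i j
    rw [← hEsum, Finset.mul_sum, Finset.sum_eq_single j (fun l _ hl => by rw [hE, if_neg (Ne.symm hl)])
      (fun hn => absurd (Finset.mem_univ _) hn), hE, if_pos rfl]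
  have hπf : π fb = E 0 0 := by
    rw [hfbe, map_mul, map_mul, map_pow, haeK, hπē, ← pow_succ]
    have : ∀ k : ℕ, E 0 0 ^ (k + 1) = E 0 0 := by
      intro k
      induction k with
      | zero => rw [pow_one]
      | succ k ih => rw [pow_succ, ih, hE, if_pos rfl]
    rw [this, hbleft]
  set Y := unitSum fb (fun i => ae i 0) (fun i => ae 0 i) with hY
  have hēc : ∀ s, ē * s = s * ē := fun s =>
    red_commute a s
  have hYe : Y * ē = Y := by
    rw [hY, unitSum, Finset.sum_mul]
    refine Finset.sum_congr rfl fun i _ => ?_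
    calc ae i 0 * fb * ae 0 i * ē = ae i 0 * (fb * ē) * ae 0 i := by
          rw [mul_assoc, ← hēc (ae 0 i)]; simp only [mul_assoc]
      _ = _ := by rw [hfe]
  have hπY : π Y = π ē := by
    rw [hY, map_unitSum, hπē, ← hEsum, unitSum]
    refine Finset.sum_congr rfl fun i _ => ?_
    simp only [Function.comp_apply, hπf, haeK, hE, if_pos]
  have hnil : IsNilpotent (ē - Y) :=
    CfsgLib.BlockArith.aug_isNilpotent_of_normal_pGroup (p := p) hV (by
      show π (ē - Y) = 0
      rw [map_sub, hπY, sub_self])
  obtain ⟨u, hu⟩ := (IsNilpotent.isUnit_one_sub hnil)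
  have hYu : Y = ē * (u : MonoidAlgebra (Res M) G) := by
    rw [hu, mul_sub, mul_one, mul_sub, hēid, hēc Y, hYe, sub_sub_cancel]
  set W := ē * ((u⁻¹ : (MonoidAlgebra (Res M) G)ˣ) : MonoidAlgebra (Res M) G) with hW
  have hYW : Y * W = ē := by
    rw [hYu, hW, mul_assoc, ← mul_assoc (u : MonoidAlgebra (Res M) G), ← hēc, mul_assoc, Units.mul_inv,
      mul_one, hēid]
  have hWY : W * Y = ē := by
    rw [hYu, hW, mul_assoc, ← mul_assoc ((u⁻¹ : (MonoidAlgebra (Res M) G)ˣ) : MonoidAlgebra (Res M) G),
      ← hēc, mul_assoc, Units.inv_mul, mul_one, hēid]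
  have hWe : W * ē = W := by
    rw [hW, mul_assoc, ← hēc, ← mul_assoc, hēid]
  obtain ⟨hz1, hz2⟩ := identities_of_rankOne n A hA (fun i => aO i 0) (fun i => aO 0 i) hfrank
  have ea : (redO M G ∘ fun i => aO i 0) = fun i => ae i 0 := funext fun i => haO i 0
  have eb : (redO M G ∘ fun i => aO 0 i) = fun i => ae 0 i := funext fun i => haO 0 i
  rw [ea, eb] at hz1 hz2
  obtain ⟨z, hzc, hzeq, hsum⟩ := decomp_of_identities hēc hfe hWe hYW hWY hz1 hz2 hre
  refine ⟨Fin (m + 1) × Fin (m + 1), inferInstance, z, fun x => ae x.1 0 * fb * ae 0 x.2, hzc,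
    fun x => ?_, hsum⟩
  rw [hzeq x]
  refine inAug_mul_right _ ?_
  show π _ = 0
  have h0 : π r = 0 := hr
  rw [map_traceMap]
  simp [traceMap, map_mul, h0]

end CfsgLib.CharBlocks.EqualDegree
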