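import Cfsg.Agent.Lib.Blocks.GroupAlgebra
import Cfsg.Agent.Lib.Blocks.SimpleTrace
import Mathlib.LinearAlgebra.Eigenspace.Zero
import Mathlib.LinearAlgebra.Matrix.ToLin

/-!
# Decomposing a block as centre times finitely many elements

* `decomp_of_identities`: two identities in a ring give such a decomposition;
* `identities_of_rankOne`: the identities hold in `O[G]` when `f` has rank at most one in every
  irreducible representation;
* `exists_rankOne_poly`: a polynomial turning a matrix with reduced characteristic polynomial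
  `(X - 1) X ^ m` into one of rank one.
-/

set_option autoImplicit false
set_option linter.unusedSectionVars false

noncomputable section

namespace CfsgLib.CharBlocks.EqualDegree

open Cfsg CfsgLib.Blocks
open scoped Matrix

attribute [local instance] CfsgLib.Blocks.resField
set_option synthInstance.maxHeartbeats 200000

section ring

variable {R : Type*} [Ring R] {ι : Type*} [Fintype ι]

/-- `∑ aₖ f r f bₖ`. -/
def traceMap (f : R) (a b : ι → R) (r : R) : R := ∑ k, a k * (f * r * f) * b k

/-- `∑ aₖ f bₖ`. -/
def unitSum (f : R) (a b : ι → R) : R := ∑ k, a k * f * b k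

theorem map_traceMap {S : Type*} [Ring S] (φ : R →+* S) (f : R) (a b : ι → R) (r : R) :
    φ (traceMap f a b r) = traceMap (φ f) (φ ∘ a) (φ ∘ b) (φ r) := by
  simp [traceMap]

theorem map_unitSum {S : Type*} [Ring S] (φ : R →+* S) (f : R) (a b : ι → R) :
    φ (unitSum f a b) = unitSum (φ f) (φ ∘ a) (φ ∘ b) := by
  simp [unitSum]

/-- The decomposition. -/
theorem decomp_of_identities {E f W : R} {a b : ι → R}
    (hEc : ∀ s, E * s = s * E) (hfE : f * E = f) (hWE : W * E = W)
    (hYW : unitSum f a b * W = E) (hWY : W * unitSum f a b = E)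
    (hz1 : ∀ r s, traceMap f a b r * s * unitSum f a b = unitSum f a b * s * traceMap f a b r)
    (hz2 : ∀ r, unitSum f a b * (unitSum f a b * r * unitSum f a b) =
      ∑ i, ∑ j, traceMap f a b (b i * r * a j) * (a i * f * b j))
    {r : R} (hr : r * E = r) :
    ∃ z : ι × ι → R, (∀ x s, z x * s = s * z x) ∧
      (∀ x, z x = traceMap f a b (b x.1 * (W * r * W) * a x.2) * W) ∧
      r = ∑ x : ι × ι, z x * (a x.1 * f * b x.2) := by
  set Y := unitSum f a b with hY
  have hzE : ∀ r, traceMap f a b r * E = traceMap f a b r := fun r => by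
    rw [traceMap, Finset.sum_mul]
    refine Finset.sum_congr rfl fun k _ => ?_
    calc a k * (f * r * f) * b k * E = a k * (f * r * (f * E)) * b k := by
          rw [mul_assoc, ← hEc (b k)]; simp only [mul_assoc]
      _ = a k * (f * r * f) * b k := by rw [hfE]
  have hYz : ∀ r, traceMap f a b r * Y = Y * traceMap f a b r := fun r => by
    simpa using hz1 r 1
  have hWz : ∀ r, W * traceMap f a b r = traceMap f a b r * W := fun r => by
    have h : W * (traceMap f a b r * Y) * W = W * (Y * traceMap f a b r) * W := by rw [hYz]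
    calc W * traceMap f a b r = W * (traceMap f a b r * E) := by rw [hzE]
      _ = W * (traceMap f a b r * Y) * W := by rw [← hYW]; simp only [mul_assoc]
      _ = W * (Y * traceMap f a b r) * W := h
      _ = E * traceMap f a b r * W := by rw [← hWY]; simp only [mul_assoc]
      _ = traceMap f a b r * E * W := by rw [hEc]
      _ = traceMap f a b r * W := by rw [hzE]
  refine ⟨fun x => traceMap f a b (b x.1 * (W * r * W) * a x.2) * W, fun x s => ?_, fun x => rfl, ?_⟩
  · set z := traceMap f a b (b x.1 * (W * r * W) * a x.2)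
    calc z * W * s = z * (W * s) := mul_assoc _ _ _
      _ = z * (W * s * E) := by rw [mul_assoc W s E, ← hEc s, ← mul_assoc W E s, hWE]
      _ = z * (W * s) * Y * W := by rw [← hYW]; simp only [mul_assoc]
      _ = Y * (W * s) * z * W := by rw [hz1]
      _ = E * s * z * W := by rw [← hYW]; simp only [mul_assoc]
      _ = s * (E * z) * W := by rw [hEc s]; simp only [mul_assoc]
      _ = s * (z * W) := by rw [hEc z, hzE, mul_assoc]
  · have h := hz2 (W * r * W)
    have h' : Y * (W * r * W) * Y = r := by
      calc Y * (W * r * W) * Y = Y * W * r * (W * Y) := by simp only [mul_assoc]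
        _ = E * r * E := by rw [hYW, hWY]
        _ = r := by rw [hEc r, hr, hr]
    rw [h'] at h
    calc r = E * r := by rw [hEc, hr]
      _ = W * (Y * r) := by rw [← hWY, mul_assoc]
      _ = _ := by
        rw [h, Finset.mul_sum, Fintype.sum_prod_type]
        refine Finset.sum_congr rfl fun i _ => ?_
        rw [Finset.mul_sum]
        refine Finset.sum_congr rfl fun j _ => ?_
        rw [← mul_assoc, hWz]

end ring

/-! ## The identities in the integral group algebra -/

variable {M : Ideal AlgInt} [M.IsMaximal] {G : Type*} [Group G] [Fintype G]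

/-- The group algebra over the local integers. -/
abbrev OG (M : Ideal AlgInt) [M.IsMaximal] (G : Type*) : Type _ := MonoidAlgebra (locRing M) G

/-- Reduction. -/
def redO (M : Ideal AlgInt) [M.IsMaximal] (G : Type*) [Group G] : OG M G →+* MonoidAlgebra (Res M) G :=
  MonoidAlgebra.mapRingHom G (res M)

theorem coeff_redO (x : OG M G) (g : G) : (redO M G x).coeff g = res M (x.coeff g) :=
  MonoidAlgebra.coeff_mapRingHom _ _ _

theorem redO_surjective : Function.Surjective (redO M G) := by
  intro y
  choose s hs using res_surjective M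
  refine ⟨ofFun fun g => s (y.coeff g), MonoidAlgebra.coeff_injective (Finsupp.ext fun g => ?_)⟩
  rw [coeff_redO, coeff_ofFun, hs]

/-- The matrices over `ℂ` of an integral representation. -/
def repO {n : ℕ} (A : G →* Matrix (Fin n) (Fin n) (locRing M)) :
    OG M G →+* Matrix (Fin n) (Fin n) ℂ :=
  ((locRing M).subtype.mapMatrix : Matrix (Fin n) (Fin n) (locRing M) →+* _).comp
    (MonoidAlgebra.lift (locRing M) (Matrix (Fin n) (Fin n) (locRing M)) G A).toRingHom

theorem repO_eq_sum {n : ℕ} (A : G →* Matrix (Fin n) (Fin n) (locRing M)) (x : OG M G) :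
    repO A x = ∑ g, (x.coeff g : ℂ) • (A g).map (locRing M).subtype := by
  induction x using MonoidAlgebra.induction_linear with
  | zero => simp
  | add a b ha hb => simp [ha, hb, add_smul, Finset.sum_add_distrib]
  | single g c =>
    classical
    rw [Finset.sum_eq_single g]
    · ext i j
      simp [repO, MonoidAlgebra.lift_single]
    · intro h _ hh
      simp [Finsupp.single_apply, Ne.symm hh]
    · intro hn; exact absurd (Finset.mem_univ _) hn

/-- An element killed by every irreducible representation is zero. -/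
theorem eq_zero_of_repO (n : IrrCharacter G → ℕ)
    (A : ∀ χ : IrrCharacter G, G →* Matrix (Fin (n χ)) (Fin (n χ)) (locRing M))
    (hA : ∀ χ g, (((A χ g).trace : locRing M) : ℂ) = (χ : G → ℂ) g) {x : OG M G}
    (hx : ∀ χ, repO (A χ) x = 0) : x = 0 := by
  classical
  refine MonoidAlgebra.coeff_injective (Finsupp.ext fun h => ?_)
  set y : OG M G := x * MonoidAlgebra.single h⁻¹ 1 with hy
  set b : CA G := MonoidAlgebra.mapRingHom G (locRing M).subtype y with hb
  have h0 : ∀ χ : IrrCharacter G, charLin (χ : G → ℂ) b = 0 := by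
    intro χ
    have h1 : (repO (A χ) y).trace = 0 := by rw [hy, map_mul, hx χ, zero_mul, Matrix.trace_zero]
    rw [repO_eq_sum, Matrix.trace_sum] at h1
    rw [charLin_apply, ← h1]
    refine Finset.sum_congr rfl fun g _ => ?_
    rw [Matrix.trace_smul, smul_eq_mul, hb, MonoidAlgebra.coeff_mapRingHom, ← hA χ g]
    congr 1
    exact AddMonoidHom.map_trace (locRing M).subtype.toAddMonoidHom (A χ g)
  have h2 := sum_degree_charLin b
  simp only [h0, mul_zero, Finset.sum_const_zero] at h2
  have h3 : b.coeff 1 = 0 := (mul_eq_zero.mp h2.symm).resolve_left CfsgLib.Char.card_ne_zero'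
  rw [hb, MonoidAlgebra.coeff_mapRingHom, hy] at h3
  have h4 : y.coeff 1 = x.coeff h := by
    rw [hy]
    have := coeff_mul_single_inv x h
    simpa using this
  rw [hy] at h4
  rw [h4] at h3
  exact Subtype.ext h3

/-- `F X F` is a multiple of `F`. -/
def RankOne {m : Type*} [Fintype m] (F : Matrix m m ℂ) : Prop :=
  ∀ X : Matrix m m ℂ, ∃ w : ℂ, F * X * F = w • F

theorem rankOne_zero {m : Type*} [Fintype m] : RankOne (0 : Matrix m m ℂ) :=
  fun _ => ⟨0, by simp⟩

theorem trace_identity_one {m : Type*} [Fintype m] [DecidableEq m] {ι : Type*} [Fintype ι]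
    {F : Matrix m m ℂ} (hF : RankOne F) (a b : ι → Matrix m m ℂ) (r s : Matrix m m ℂ) :
    traceMap F a b r * s * unitSum F a b = unitSum F a b * s * traceMap F a b r := by
  obtain ⟨w, hw⟩ := hF r
  have h : traceMap F a b r = w • unitSum F a b := by
    simp [traceMap, unitSum, hw, Finset.smul_sum]
  rw [h, smul_mul_assoc, smul_mul_assoc, mul_smul_comm]

theorem trace_identity_two {m : Type*} [Fintype m] [DecidableEq m] {ι : Type*} [Fintype ι]
    {F : Matrix m m ℂ} (hF : RankOne F) (a b : ι → Matrix m m ℂ) (r : Matrix m m ℂ) :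
    unitSum F a b * (unitSum F a b * r * unitSum F a b) =
      ∑ i, ∑ j, traceMap F a b (b i * r * a j) * (a i * F * b j) := by
  set Y := unitSum F a b with hY
  conv_lhs => rw [hY, unitSum]; arg 2; rw [Finset.sum_mul, Finset.sum_mul]
  rw [Finset.mul_sum]
  refine Finset.sum_congr rfl fun i _ => ?_
  rw [Finset.mul_sum, Finset.mul_sum]
  refine Finset.sum_congr rfl fun j _ => ?_
  obtain ⟨w, hw⟩ := hF (b i * r * a j)
  have h : traceMap F a b (b i * r * a j) = w • Y := by
    simp [hY, traceMap, unitSum, hw, Finset.smul_sum]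
  have e : a i * F * b i * r * (a j * F * b j) = w • (a i * F * b j) := by
    calc a i * F * b i * r * (a j * F * b j) = a i * (F * (b i * r * a j) * F) * b j := by
          simp only [mul_assoc]
      _ = _ := by rw [hw, mul_smul_comm, smul_mul_assoc]
  rw [e, h, mul_smul_comm, smul_mul_assoc]
  rfl

/-- The identities modulo `M`. -/
theorem identities_of_rankOne {ι : Type*} [Fintype ι] (n : IrrCharacter G → ℕ)
    (A : ∀ χ : IrrCharacter G, G →* Matrix (Fin (n χ)) (Fin (n χ)) (locRing M))
    (hA : ∀ χ g, (((A χ g).trace : locRing M) : ℂ) = (χ : G → ℂ) g) {f : OG M G} (a b : ι → OG M G)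
    (hf : ∀ χ, RankOne (repO (A χ) f)) :
    (∀ r s, traceMap (redO M G f) (redO M G ∘ a) (redO M G ∘ b) r * s *
        unitSum (redO M G f) (redO M G ∘ a) (redO M G ∘ b) =
      unitSum (redO M G f) (redO M G ∘ a) (redO M G ∘ b) * s *
        traceMap (redO M G f) (redO M G ∘ a) (redO M G ∘ b) r) ∧
    ∀ r, unitSum (redO M G f) (redO M G ∘ a) (redO M G ∘ b) *
        (unitSum (redO M G f) (redO M G ∘ a) (redO M G ∘ b) * r *
          unitSum (redO M G f) (redO M G ∘ a) (redO M G ∘ b)) =
      ∑ i, ∑ j, traceMap (redO M G f) (redO M G ∘ a) (redO M G ∘ b)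
          ((redO M G ∘ b) i * r * (redO M G ∘ a) j) *
        ((redO M G ∘ a) i * redO M G f * (redO M G ∘ b) j) := by
  constructor
  · intro r s
    obtain ⟨r, rfl⟩ := redO_surjective r
    obtain ⟨s, rfl⟩ := redO_surjective s
    have h : traceMap f a b r * s * unitSum f a b = unitSum f a b * s * traceMap f a b r := by
      refine sub_eq_zero.mp (eq_zero_of_repO n A hA fun χ => ?_)
      rw [map_sub, sub_eq_zero]
      simp only [map_mul, map_traceMap, map_unitSum]
      exact trace_identity_one (hf χ) _ _ _ _
    have h' := congrArg (redO M G) h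
    simpa only [map_mul, map_traceMap, map_unitSum] using h'
  · intro r
    obtain ⟨r, rfl⟩ := redO_surjective r
    have h : unitSum f a b * (unitSum f a b * r * unitSum f a b) =
        ∑ i, ∑ j, traceMap f a b (b i * r * a j) * (a i * f * b j) := by
      refine sub_eq_zero.mp (eq_zero_of_repO n A hA fun χ => ?_)
      rw [map_sub, sub_eq_zero]
      simp only [map_mul, map_sum, map_traceMap, map_unitSum]
      exact trace_identity_two (hf χ) _ _ _
    have h' := congrArg (redO M G) h
    simpa only [map_mul, map_sum, map_traceMap, map_unitSum, Function.comp_apply] using h'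

/-! ## Rank one -/

/-- The local integers are integrally closed in `ℂ`. -/
theorem mem_locRing_of_isRoot {P : Polynomial (locRing M)} (hP : P.Monic) {x : ℂ}
    (hx : (P.map (locRing M).subtype).IsRoot x) : x ∈ locRing M := by
  classical
  let s : AlgInt := ∏ i ∈ P.support, den M (P.coeff i)
  have hs : s ∉ M := fun h => by
    obtain ⟨i, -, hi⟩ := ((Ideal.IsMaximal.isPrime (inferInstance : M.IsMaximal)).prod_mem_iff).mp h
    exact den_notMem M (P.coeff i) hi
  have hint : IsIntegral ℤ ((s : ℂ) * x) := by
    set Q : Polynomial ℂ := (P.map (locRing M).subtype).scaleRoots (s : ℂ) with hQ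
    have hQm : Q.Monic := (Polynomial.monic_scaleRoots_iff (s : ℂ)).mpr (hP.map _)
    have hQr : Q.IsRoot ((s : ℂ) * x) := by
      show Polynomial.eval ((s : ℂ) * x) Q = 0
      rw [← Polynomial.eval₂_id, ← RingHom.id_apply (s : ℂ), hQ]
      exact Polynomial.scaleRoots_eval₂_eq_zero _ (by rw [Polynomial.eval₂_id]; exact hx)
    have hcoef : ∀ i, IsIntegral ℤ (Q.coeff i) := by
      intro i
      rw [hQ, Polynomial.coeff_scaleRoots, Polynomial.coeff_map,
        Polynomial.natDegree_map_eq_of_injective Subtype.val_injective]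
      by_cases hi : i ∈ P.support
      · rcases lt_or_ge i P.natDegree with hlt | hge
        · obtain ⟨k, hk⟩ : ∃ k, P.natDegree - i = k + 1 := ⟨P.natDegree - i - 1, by omega⟩
          rw [hk, pow_succ', ← mul_assoc]
          refine IsIntegral.mul ?_ (IsIntegral.pow s.2 k)
          show IsIntegral ℤ ((P.coeff i : ℂ) * (s : ℂ))
          rw [show s = den M (P.coeff i) * ∏ j ∈ P.support.erase i, den M (P.coeff j) from
            (Finset.mul_prod_erase _ _ hi).symm, MulMemClass.coe_mul, ← mul_assoc, ← num_eq]
          exact IsIntegral.mul (num M _).2 (∏ j ∈ P.support.erase i, den M (P.coeff j) : AlgInt).2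
        · have : i = P.natDegree := le_antisymm (Polynomial.le_natDegree_of_mem_supp _ hi) hge
          subst this
          rw [hP.coeff_natDegree, map_one, one_mul, Nat.sub_self, pow_zero]
          exact isIntegral_one
      · rw [Polynomial.notMem_support_iff.mp hi, map_zero, zero_mul]
        exact isIntegral_zero
    let Q' : Polynomial AlgInt := Polynomial.toSubring Q AlgInt.toSubring (by
      intro c hc
      obtain ⟨i, -, rfl⟩ := Polynomial.mem_coeffs_iff.mp hc
      exact hcoef i)
    exact isIntegral_trans (R := ℤ) (A := AlgInt) _ ⟨Q', (Polynomial.monic_toSubring _ _ _).mpr hQm, by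
      rw [← Polynomial.eval_map]
      have : Q'.map (algebraMap AlgInt ℂ) = Q := by
        refine Polynomial.ext fun i => ?_
        rw [Polynomial.coeff_map]
        exact Polynomial.coeff_toSubring _ _ _ (n := i)
      rw [this]
      exact hQr⟩
  exact ⟨⟨(s : ℂ) * x, hint⟩, s, hs, by
    show (s : ℂ) * x / (s : ℂ) = x
    rw [mul_div_cancel_left₀ x (coe_ne_zero_of_notMem hs)]⟩

/-- A matrix with one reduced eigenvalue one and the others zero. -/
theorem exists_rankOne_poly {m : ℕ} (B : Matrix (Fin (m + 1)) (Fin (m + 1)) (locRing M))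
    (hB : B.charpoly.map (res M) = (Polynomial.X - 1) * Polynomial.X ^ m) :
    ∃ q : Polynomial (locRing M), q.map (res M) = Polynomial.X ^ m ∧
      ∀ Z : Matrix (Fin (m + 1)) (Fin (m + 1)) (locRing M),
        RankOne ((Polynomial.aeval B q * Z).map (locRing M).subtype) := by
  classical
  let emb : locRing M →+* ℂ := (locRing M).subtype
  let N : Matrix (Fin (m + 1)) (Fin (m + 1)) ℂ := B.map emb
  set s := N.charpoly.roots with hs
  have hroot : ∀ z ∈ s, z ∈ locRing M := fun z hz => by
    refine mem_locRing_of_isRoot (Matrix.charpoly_monic B) ?_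
    have := (Polynomial.mem_roots'.mp hz).2
    rwa [Matrix.charpoly_map] at this
  let t : Multiset (locRing M) := s.pmap (fun z hz => (⟨z, hz⟩ : locRing M)) hroot
  have ht : t.map emb = s := by
    simp only [t, Multiset.map_pmap]
    exact (Multiset.pmap_eq_map _ _ _ _).trans (Multiset.map_id s)
  have hsplit : (s.map fun z => Polynomial.X - Polynomial.C z).prod = N.charpoly :=
    Polynomial.prod_multiset_X_sub_C_of_monic_of_roots_card_eq (Matrix.charpoly_monic N)
      ((IsAlgClosed.splits N.charpoly).natDegree_eq_card_roots.symm)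
  have hO : B.charpoly = (t.map fun z => Polynomial.X - Polynomial.C z).prod := by
    apply Polynomial.map_injective emb Subtype.val_injective
    rw [← Matrix.charpoly_map, Polynomial.map_multiset_prod, Multiset.map_map]
    show N.charpoly = _
    rw [← hsplit, ← ht, Multiset.map_map]
    congr 1
    exact Multiset.map_congr rfl fun z _ => by simp
  have hres : t.map (res M) = 1 ::ₘ Multiset.replicate m 0 := by
    have h1 : ((t.map (res M)).map fun z => Polynomial.X - Polynomial.C z).prod =
        (Polynomial.X - 1) * Polynomial.X ^ m := by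
      rw [← hB, hO, Polynomial.map_multiset_prod, Multiset.map_map, Multiset.map_map]
      congr 1
      exact Multiset.map_congr rfl fun z _ => by simp
    have h2 := congrArg Polynomial.roots h1
    rw [Polynomial.roots_multiset_prod_X_sub_C] at h2
    have hne : (Polynomial.X - 1 : Polynomial (Res M)) * Polynomial.X ^ m ≠ 0 :=
      mul_ne_zero (Polynomial.monic_X_sub_C (1 : Res M) |>.ne_zero |> fun h => by simpa using h)
        (pow_ne_zero _ Polynomial.X_ne_zero)
    rw [h2, Polynomial.roots_mul hne, ← map_one Polynomial.C, Polynomial.roots_X_sub_C,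
      Polynomial.roots_pow, Polynomial.roots_X, Multiset.nsmul_singleton, Multiset.singleton_add]
  obtain ⟨r₀, hr₀t, hr₀⟩ := Multiset.mem_map.mp (hres ▸ Multiset.mem_cons_self 1 _ : (1 : Res M) ∈ t.map (res M))
  set u := t.erase r₀ with hu
  have htu : t = r₀ ::ₘ u := (Multiset.cons_erase hr₀t).symm
  have hures : u.map (res M) = Multiset.replicate m 0 := by
    have := hres
    rw [htu, Multiset.map_cons, hr₀] at this
    exact (Multiset.cons_inj_right 1).mp this
  have hne : r₀ ∉ u := fun h => by
    have := Multiset.eq_of_mem_replicate (hures ▸ Multiset.mem_map_of_mem (res M) h)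
    rw [hr₀] at this
    exact one_ne_zero this
  let q : Polynomial (locRing M) := (u.map fun z => Polynomial.X - Polynomial.C z).prod
  refine ⟨q, ?_, fun Z => ?_⟩
  · rw [Polynomial.map_multiset_prod, Multiset.map_map,
      show (Polynomial.map (res M) ∘ fun z => Polynomial.X - Polynomial.C z) =
        (fun z => Polynomial.X - Polynomial.C z) ∘ res M from funext fun z => by simp,
      ← Multiset.map_map, hures, Multiset.map_replicate, Multiset.prod_replicate, map_zero, sub_zero]
  -- the range of `q(B)` lies in a line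
  have hroot1 : N.charpoly.rootMultiplicity (r₀ : ℂ) ≤ 1 := by
    rw [← Polynomial.count_roots, ← hs, ← ht]
    have h0 : (t.map emb).count (emb r₀) = t.count r₀ :=
      Multiset.count_map_eq_count' _ _ Subtype.val_injective _
    show (t.map emb).count (emb r₀) ≤ 1
    rw [h0, htu, Multiset.count_cons_self, Multiset.count_eq_zero_of_notMem hne]
  let F : Module.End ℂ (Fin (m + 1) → ℂ) := Matrix.toLin' N
  have hdim : Module.finrank ℂ (F.eigenspace (r₀ : ℂ)) ≤ 1 := by
    refine (LinearMap.finrank_eigenspace_le F _).trans ?_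
    rwa [Matrix.charpoly_toLin']
  have hkill : (B - algebraMap (locRing M) _ r₀) * Polynomial.aeval B q = 0 := by
    have h1 := Matrix.aeval_self_charpoly B
    rw [hO, htu, Multiset.map_cons, Multiset.prod_cons, map_mul, map_sub, Polynomial.aeval_X,
      Polynomial.aeval_C] at h1
    exact h1
  set W : Matrix (Fin (m + 1)) (Fin (m + 1)) ℂ := (Polynomial.aeval B q * Z).map emb with hW
  have hNW : N * W = (r₀ : ℂ) • W := by
    have h1 : B * (Polynomial.aeval B q * Z) = r₀ • (Polynomial.aeval B q * Z) := by
      rw [sub_mul, sub_eq_zero, Algebra.algebraMap_eq_smul_one, smul_mul_assoc, one_mul] at hkill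
      rw [← mul_assoc, hkill, smul_mul_assoc]
    have h2 := congrArg (fun X => X.map emb) h1
    rw [Matrix.map_mul] at h2
    rw [hW, h2]
    ext i j
    simp [emb]
  have hcol : ∀ v : Fin (m + 1) → ℂ, W *ᵥ v ∈ F.eigenspace (r₀ : ℂ) := fun v => by
    rw [Module.End.mem_eigenspace_iff]
    show N *ᵥ (W *ᵥ v) = _
    rw [Matrix.mulVec_mulVec, hNW, Matrix.smul_mulVec]
  intro X
  by_cases hW0 : W = 0
  · exact ⟨0, by rw [hW0]; simp⟩
  obtain ⟨v, hv⟩ : ∃ v, W *ᵥ v ≠ 0 := by
    by_contra hall
    push Not at hall
    exact hW0 (Matrix.toLin'.injective (LinearMap.ext fun v => by simp [hall v]))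
  set u₀ : F.eigenspace (r₀ : ℂ) := ⟨_, hcol v⟩
  have hu₀ : u₀ ≠ 0 := fun h => hv (congrArg Subtype.val h)
  have h1 : Module.finrank ℂ (F.eigenspace (r₀ : ℂ)) = 1 :=
    le_antisymm hdim (Module.finrank_pos_iff_exists_ne_zero.mpr ⟨u₀, hu₀⟩)
  have hline : ∀ y, ∃ c : ℂ, c • (W *ᵥ v) = W *ᵥ y := fun y => by
    obtain ⟨c, hc⟩ := exists_smul_eq_of_finrank_eq_one h1 hu₀ ⟨_, hcol y⟩
    exact ⟨c, congrArg Subtype.val hc⟩
  obtain ⟨w, hw⟩ := hline (X *ᵥ (W *ᵥ v))
  refine ⟨w, Matrix.toLin'.injective (LinearMap.ext fun y => ?_)⟩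
  obtain ⟨c, hc⟩ := hline y
  simp only [map_smul, LinearMap.smul_apply, Matrix.toLin'_apply, ← Matrix.mulVec_mulVec, ← hc,
    Matrix.mulVec_smul]
  rw [← hw, smul_comm]

end CfsgLib.CharBlocks.EqualDegree
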