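import Cfsg.Agent.Lib.DefectZero.Reduction
import Cfsg.Agent.Lib.Blocks.SmallBlock
import Cfsg.Agent.Lib.BrauerPairs.Idem

/-!
# Matrix units of a block of defect zero

For an integral form `A` of a character of defect zero, `mu i j` is the reduction of
`(d / |H|) ∑ A(x⁻¹)ⱼᵢ x`.
-/

set_option autoImplicit false
set_option linter.unusedSectionVars false

noncomputable section

namespace CfsgLib.CharBlocks.EqualDegree

open Cfsg CfsgLib.Blocks CfsgLib.DefectZero
open scoped ComplexConjugate

attribute [local instance] CfsgLib.Blocks.resField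
set_option synthInstance.maxHeartbeats 200000

variable {M : Ideal AlgInt} [M.IsMaximal] {H : Type*} [Group H] [Fintype H] {p d : ℕ}
  {χ : H → ℂ} {A : H →* Matrix (Fin d) (Fin d) (locRing M)}

/-- The inverse of the cofactor. -/
def cof (M : Ideal AlgInt) [M.IsMaximal] (H : Type*) (d : ℕ) : Res M :=
  ((Nat.card H / d : ℕ) : Res M)⁻¹

/-- The matrix unit at `(i, j)`. -/
def mu (A : H →* Matrix (Fin d) (Fin d) (locRing M)) (i j : Fin d) : MonoidAlgebra (Res M) H :=
  ofFun fun x => cof M H d * res M (A x⁻¹ j i)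

theorem coeff_mu (A : H →* Matrix (Fin d) (Fin d) (locRing M)) (i j : Fin d) (x : H) :
    (mu A i j).coeff x = cof M H d * res M (A x⁻¹ j i) := coeff_ofFun _ x

theorem res_orth (h : IsZeroDefectForm (res M) p χ A) (a b i j : Fin d) :
    ∑ x : H, res M (A x a b) * res M (A x⁻¹ j i) =
      if b = j ∧ a = i then ((Nat.card H / d : ℕ) : Res M) else 0 := by
  classical
  have h1 := congrFun (congrFun (h.sum_conj (Matrix.single b j 1)) a) i
  rw [Matrix.sum_apply] at h1
  have hterm : ∀ g : H, (A g * Matrix.single b j (1 : locRing M) * A g⁻¹) a i = A g a b * A g⁻¹ j i := by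
    intro g
    simp [Matrix.mul_apply, Matrix.single_apply, ite_and, Finset.sum_mul]
  rw [Finset.sum_congr rfl fun g _ => hterm g] at h1
  have h2 := congrArg (res M) h1
  simp only [map_sum, map_mul] at h2
  rw [h2, Matrix.smul_apply, smul_eq_mul, map_mul, map_mul, map_natCast]
  by_cases hbj : b = j
  · subst hbj
    rw [Matrix.trace_single_eq_same, map_one, mul_one]
    by_cases hai : a = i
    · subst hai; simp
    · rw [Matrix.one_apply_ne hai, map_zero, mul_zero, if_neg (fun h => hai h.2)]
  · rw [Matrix.trace_single_eq_of_ne _ _ _ hbj, map_zero, mul_zero, zero_mul,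
      if_neg (fun h => hbj h.1)]

theorem mu_mul_single_mul_mu (h : IsZeroDefectForm (res M) p χ A) (g : H) (i j k l : Fin d) :
    mu A i j * MonoidAlgebra.single g 1 * mu A k l = res M (A g j k) • mu A i l := by
  classical
  refine MonoidAlgebra.coeff_injective (Finsupp.ext fun y => ?_)
  rw [coeff_mul_eq_sum, MonoidAlgebra.coeff_smul, Finsupp.smul_apply, smul_eq_mul, coeff_mu]
  have e : ∀ z : H, (mu A i j * MonoidAlgebra.single g 1).coeff z =
      (mu A i j).coeff (z * g⁻¹) := fun z => by
    rw [coeff_mul_eq_sum, Finset.sum_eq_single (z * g⁻¹)]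
    · simp
    · intro b _ hb
      rw [MonoidAlgebra.coeff_single, Finsupp.single_apply, if_neg, mul_zero]
      intro hg
      exact hb (by rw [hg]; group)
    · intro hn; exact absurd (Finset.mem_univ _) hn
  rw [← Equiv.sum_comp (Equiv.mulRight g)]
  simp only [e, Equiv.coe_mulRight, mul_inv_cancel_right, coeff_mu]
  have e2 : ∀ x : H, res M (A ((x * g)⁻¹ * y)⁻¹ l k) =
      ∑ a, ∑ b, res M (A y⁻¹ l a) * res M (A x a b) * res M (A g b k) := fun x => by
    rw [show ((x * g)⁻¹ * y)⁻¹ = y⁻¹ * x * g by group, map_mul, map_mul, Matrix.mul_apply,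
      map_sum, Finset.sum_comm]
    refine Finset.sum_congr rfl fun b _ => ?_
    rw [map_mul, Matrix.mul_apply, map_sum, Finset.sum_mul]
    exact Finset.sum_congr rfl fun a _ => by rw [map_mul]
  simp only [e2]
  have hc := h.cofactor_ne_zero
  calc ∑ x : H, cof M H d * res M (A x⁻¹ j i) *
        (cof M H d * ∑ a, ∑ b, res M (A y⁻¹ l a) * res M (A x a b) * res M (A g b k))
      = ∑ a, ∑ b, cof M H d * cof M H d * res M (A y⁻¹ l a) * res M (A g b k) *
          ∑ x : H, res M (A x a b) * res M (A x⁻¹ j i) := by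
        simp only [Finset.mul_sum]
        rw [Finset.sum_comm]
        refine Finset.sum_congr rfl fun a _ => ?_
        rw [Finset.sum_comm]
        exact Finset.sum_congr rfl fun b _ => Finset.sum_congr rfl fun x _ => by ring
    _ = res M (A g j k) * (cof M H d * res M (A y⁻¹ l i)) := by
        simp only [res_orth h]
        rw [Finset.sum_eq_single i, Finset.sum_eq_single j, if_pos ⟨rfl, rfl⟩, cof]
        · field_simp
        · intro b _ hb; rw [if_neg (fun h => hb h.1), mul_zero]
        · intro hn; exact absurd (Finset.mem_univ _) hn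
        · intro a _ ha
          exact Finset.sum_eq_zero fun b _ => by rw [if_neg (fun h => ha h.2), mul_zero]
        · intro hn; exact absurd (Finset.mem_univ _) hn

theorem mu_mul_mu (h : IsZeroDefectForm (res M) p χ A) (i j k l : Fin d) :
    mu A i j * mu A k l = if j = k then mu A i l else 0 := by
  classical
  have h1 := mu_mul_single_mul_mu h 1 i j k l
  rw [← MonoidAlgebra.one_def, mul_one, map_one] at h1
  rw [h1, Matrix.one_apply]
  split_ifs with hjk <;> simp

/-- The diagonal matrix units add up to the idempotent of the character. -/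
theorem sum_mu (h : IsZeroDefectForm (res M) p χ A) (θ : IrrCharacter H) (hθ : (θ : H → ℂ) = χ)
    (hB : IsPBlock M ({θ} : Set (IrrCharacter H))) :
    ∑ i, mu A i i = red (idem hB) := by
  classical
  refine MonoidAlgebra.coeff_injective (Finsupp.ext fun x => ?_)
  rw [MonoidAlgebra.coeff_sum, Finsupp.finsetSum_apply]
  simp only [coeff_mu]
  rw [← Finset.mul_sum, ← map_sum, coeff_red, rcoeff]
  show cof M H d * res M (A x⁻¹).trace = _
  have hq : ((Nat.card H / d : ℕ) : ℂ) ≠ 0 := fun h0 => h.cofactor_ne_zero (by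
    rw [Nat.cast_eq_zero.mp h0, Nat.cast_zero])
  have hd0 : (d : ℂ) ≠ 0 := Nat.cast_ne_zero.mpr h.deg_ne_zero
  have hcard : (Nat.card H : ℂ) = (d : ℂ) * ((Nat.card H / d : ℕ) : ℂ) := by
    rw [← Nat.cast_mul, Nat.mul_div_cancel' h.deg_dvd]
  set a : locRing M := ⟨((idem hB : Zint M H) : CA H).coeff x, (mem_Zint_iff.mp (idem hB).2).1 x⟩
  have hval : (a : ℂ) * ((Nat.card H / d : ℕ) : ℂ) = (((A x⁻¹).trace : locRing M) : ℂ) := by
    rw [h.trace x⁻¹]
    show blockCoeff ({θ} : Set (IrrCharacter H)) x * _ = _
    rw [blockCoeff, finsum_mem_singleton, hθ, CfsgLib.Char.char_inv (CfsgLib.Char.isCharacter_of_isIrr h.irr),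
      h.deg, hcard]
    field_simp
  have h2 : a * ((Nat.card H / d : ℕ) : locRing M) = (A x⁻¹).trace :=
    Subtype.ext (by rw [Subring.coe_mul, SubringClass.coe_natCast]; exact hval)
  have h3 := congrArg (res M) h2
  rw [map_mul, map_natCast] at h3
  rw [← h3, cof]
  rw [mul_comm (res M a), ← mul_assoc, inv_mul_cancel₀ h.cofactor_ne_zero, one_mul]

/-- A trace functional seeing the block only is a multiple of the reduced character. -/
theorem trace_functional_eq (h : IsZeroDefectForm (res M) p χ A)
    (F : MonoidAlgebra (Res M) H →ₗ[Res M] Res M) (hF : ∀ a b, F (a * b) = F (b * a)) (i : Fin d)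
    (g : H) :
    F (MonoidAlgebra.single g 1 * ∑ j, mu A j j) = res M (A g).trace * F (mu A i i) := by
  classical
  rw [Finset.mul_sum, map_sum, Matrix.trace, map_sum, Finset.sum_mul]
  refine Finset.sum_congr rfl fun j _ => ?_
  have e : mu A j j = mu A j i * mu A i j := by rw [mu_mul_mu h, if_pos rfl]
  rw [e, ← mul_assoc, hF, ← mul_assoc, mu_mul_single_mul_mu h, map_smul, smul_eq_mul]
  rfl

/-- The reduced character of the first matrix unit is one. -/
theorem charval_mu (h : IsZeroDefectForm (res M) p χ A) (i : Fin d) :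
    ∑ x : H, (mu A i i).coeff x * res M (A x).trace = 1 := by
  classical
  simp only [coeff_mu, Matrix.trace, map_sum, Finset.mul_sum, Matrix.diag_apply]
  rw [Finset.sum_comm, Finset.sum_eq_single i]
  · rw [Finset.sum_congr rfl fun x _ => show cof M H d * res M (A x⁻¹ i i) * res M (A x i i) =
      cof M H d * (res M (A x i i) * res M (A x⁻¹ i i)) by ring,
      ← Finset.mul_sum, res_orth h, if_pos ⟨rfl, rfl⟩, cof, inv_mul_cancel₀ h.cofactor_ne_zero]
  · intro a _ ha
    rw [Finset.sum_congr rfl fun x _ => show cof M H d * res M (A x⁻¹ i i) * res M (A x a a) =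
      cof M H d * (res M (A x a a) * res M (A x⁻¹ i i)) by ring,
      ← Finset.mul_sum, res_orth h, if_neg (fun h => ha h.2), mul_zero]
  · intro hn; exact absurd (Finset.mem_univ _) hn

end CfsgLib.CharBlocks.EqualDegree
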