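import Cfsg.Agent.Lib.BrauerPairs.Basic
import Cfsg.Agent.Lib.BrauerPairs.Weight
import Cfsg.Agent.Lib.CharBlocks.EqualDegree.MatUnits
import Cfsg.Agent.Lib.CharBlocks.EqualDegree.Decomp
import Cfsg.Agent.Lib.Blocks.Covering

/-!
# Idempotents: push-forward, sums of block idempotents, integral lifts
-/

set_option autoImplicit false
set_option linter.unusedSectionVars false

noncomputable section

namespace CfsgLib.CharBlocks.EqualDegree

open Cfsg CfsgLib.Blocks CfsgLib.BrauerPairs CfsgLib.DefectZero

attribute [local instance] CfsgLib.Blocks.resField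
set_option synthInstance.maxHeartbeats 200000

variable {M : Ideal AlgInt} [M.IsMaximal] {G H : Type*} [Group G] [Fintype G] [Group H] [Fintype H]

/-- Push-forward of an integral central element along a surjection. -/
theorem exists_push (f : G →* H) (hf : Function.Surjective f) (a : Zint M G) :
    ∃ b : Zint M H, (b : CA H) = MonoidAlgebra.mapDomainRingHom ℂ f (a : CA G) ∧
      red b = MonoidAlgebra.mapDomainRingHom (Res M) f (red a) ∧
      ∀ (ψ : IrrCharacter H) (η : IrrCharacter G), (η : G → ℂ) = (ψ : H → ℂ) ∘ f →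
        zomega ψ b = zomega η a := by
  classical
  have hcoef : ∀ h, (MonoidAlgebra.mapDomainRingHom ℂ f (a : CA G)).coeff h =
      ∑ g, if f g = h then (a : CA G).coeff g else 0 := by
    intro h
    rw [MonoidAlgebra.mapDomainRingHom_apply, MonoidAlgebra.coeff_mapDomain, Finsupp.mapDomain,
      Finsupp.sum_apply, Finsupp.sum_fintype _ _ (fun g => by simp)]
    exact Finset.sum_congr rfl fun g _ => Finsupp.single_apply
  have hmem : MonoidAlgebra.mapDomainRingHom ℂ f (a : CA G) ∈ Zint M H := by
    refine mem_Zint_iff.mpr ⟨fun h => ?_, fun u v => ?_⟩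
    · rw [hcoef]
      exact Subring.sum_mem _ fun g _ => by
        split_ifs
        exacts [(mem_Zint_iff.mp a.2).1 g, Subring.zero_mem _]
    · obtain ⟨w, rfl⟩ := hf v
      rw [hcoef, hcoef]
      refine Fintype.sum_equiv (MulAut.conj w⁻¹).toEquiv _ _ fun x => ?_
      have e : (MulAut.conj w⁻¹).toEquiv x = w⁻¹ * x * w := by simp
      rw [e]
      refine if_congr ?_ ?_ rfl
      · rw [map_mul, map_mul, map_inv]
        constructor
        · rintro h; rw [h]; group
        · intro h; rw [← h]; group
      · have := (mem_Zint_iff.mp a.2).2 x w⁻¹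
        rw [inv_inv] at this
        exact this.symm
  refine ⟨⟨_, hmem⟩, rfl, ?_, fun ψ η hη => ?_⟩
  · refine MonoidAlgebra.coeff_injective (Finsupp.ext fun h => ?_)
    have hR : (MonoidAlgebra.mapDomainRingHom (Res M) f (red a)).coeff h =
        ∑ g, (Finsupp.single (f g) ((red a).coeff g)) h := by
      rw [MonoidAlgebra.mapDomainRingHom_apply, MonoidAlgebra.coeff_mapDomain,
        Finsupp.mapDomain, Finsupp.sum_apply, Finsupp.sum_fintype _ _ (fun g => by simp)]
    rw [coeff_red, rcoeff, hR]
    have e1 : ∀ g : G, (Finsupp.single (f g) ((red a).coeff g)) h =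
        res M (if f g = h then ⟨(a : CA G).coeff g, (mem_Zint_iff.mp a.2).1 g⟩ else 0) := fun g => by
      rw [Finsupp.single_apply, coeff_red]
      split_ifs
      · rfl
      · exact (map_zero _).symm
    rw [Finset.sum_congr rfl fun g _ => e1 g, ← map_sum]
    refine congrArg (res M) (Subtype.ext ?_)
    show (MonoidAlgebra.mapDomainRingHom ℂ f (a : CA G)).coeff h = _
    rw [hcoef, AddSubmonoidClass.coe_finsetSum]
    exact Finset.sum_congr rfl fun g _ => by split_ifs <;> rfl
  · refine Subtype.ext ?_
    rw [coe_zomega, coe_zomega, omega, omega]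
    congr 1
    · show charLin (ψ : H → ℂ) (MonoidAlgebra.mapDomainRingHom ℂ f (a : CA G)) = _
      rw [charLin_apply, charLin_apply]
      simp only [hcoef, Finset.sum_mul, ite_mul, zero_mul]
      rw [Finset.sum_comm]
      refine Finset.sum_congr rfl fun g _ => ?_
      rw [Finset.sum_ite_eq, if_pos (Finset.mem_univ _), hη]
      rfl
    · rw [hη, Function.comp_apply, map_one]

theorem mapDomain_mul_self {f : G →* H} {a : Zint M G} {b : Zint M H} (ha : a * a = a)
    (hb : (b : CA H) = MonoidAlgebra.mapDomainRingHom ℂ f (a : CA G)) : b * b = b := by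
  refine Subtype.ext ?_
  rw [Subring.coe_mul, hb, ← map_mul, ← Subring.coe_mul, ha]

theorem bomega_zero_or_one {a : Zint M G} (ha : a * a = a) (χ : IrrCharacter G) :
    zomega χ a = 0 ∨ zomega χ a = 1 := by
  have h : zomega χ a * zomega χ a = zomega χ a := by rw [← map_mul, ha]
  rcases eq_or_ne (zomega χ a) 0 with h0 | h0
  · exact Or.inl h0
  · refine Or.inr (Subtype.ext ?_)
    have h' := congrArg (Subtype.val : locRing M → ℂ) h
    rw [Subring.coe_mul] at h'
    exact mul_left_cancel₀ (fun hc => h0 (Subtype.ext hc)) (h'.trans (mul_one _).symm)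

/-- A central idempotent modulo `M` is the sum of the block idempotents it contains. -/
theorem eq_sum_ridem {x : MonoidAlgebra (Res M) H}
    (hx : ∀ g h : H, x.coeff (h * g * h⁻¹) = x.coeff g) (hid : x * x = x)
    [Fintype {B : Set (IrrCharacter H) // IsPBlock M B ∧ ∃ hB : IsPBlock M B, x * ridem hB = ridem hB}] :
    x = ∑ i : {B : Set (IrrCharacter H) // IsPBlock M B ∧ ∃ hB : IsPBlock M B, x * ridem hB = ridem hB},
      ridem i.2.1 := by
  classical
  obtain ⟨a, rfl⟩ := exists_lift hx
  set s : Zint M H := ∑ i : {B : Set (IrrCharacter H) //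
    IsPBlock M B ∧ ∃ hB : IsPBlock M B, red a * ridem hB = ridem hB}, idem i.2.1 with hs
  have hred : red s = ∑ i : {B : Set (IrrCharacter H) //
      IsPBlock M B ∧ ∃ hB : IsPBlock M B, red a * ridem hB = ridem hB}, ridem i.2.1 := map_sum red _ _
  rw [← hred]
  have hcomm : ∀ u v : Zint M H, red u * red v = red v * red u := fun u v => by
    rw [← map_mul, ← map_mul, mul_comm]
  have has : red a * red s = red s := by
    rw [hred, Finset.mul_sum]
    refine Finset.sum_congr rfl fun i _ => ?_
    obtain ⟨hB, h⟩ := i.2.2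
    exact h
  have hss : red s * red s = red s := by
    rw [← map_mul]
    congr 1
    rw [hs, Finset.sum_mul]
    refine Finset.sum_congr rfl fun i _ => ?_
    rw [Finset.mul_sum, Finset.sum_eq_single i (fun j _ hj =>
      idem_mul_of_ne i.2.1 j.2.1 fun h => hj (Subtype.ext h.symm))
      (fun hn => absurd (Finset.mem_univ _) hn), idem_mul_self]
  by_contra hne
  set y := red a - red s with hy
  have hyc : ∀ g h : H, y.coeff (h * g * h⁻¹) = y.coeff g := by
    rw [hy, ← map_sub]
    exact fun g h => rcoeff_eq_of_isConj _ ((isConj_iff.mpr ⟨h, rfl⟩).symm)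
  have hyid : y * y = y := by
    rw [hy, sub_mul, mul_sub, mul_sub, hid, hcomm s a, has, hss, sub_self, sub_zero]
  obtain ⟨B, hB, hocc⟩ := exists_occurs hyc hyid (sub_ne_zero.mpr hne)
  have h1 : red a * ridem hB = ridem hB := by
    rw [← hocc, ← mul_assoc, hy, mul_sub, hid, has]
  have h2 : red s * ridem hB = ridem hB := by
    rw [hred, Finset.sum_mul, Finset.sum_eq_single ⟨B, hB, hB, h1⟩ (fun j _ hj =>
      ridem_mul_of_ne j.2.1 hB fun h => hj (Subtype.ext h))
      (fun hn => absurd (Finset.mem_univ _) hn), ridem_mul_self]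
  rw [hy, sub_mul, h1, h2, sub_self] at hocc
  exact ridem_ne_zero hB hocc.symm

/-- The integral coefficients of a central element. -/
def toOG (a : Zint M G) : OG M G :=
  ofFun fun g => ⟨(a : CA G).coeff g, (mem_Zint_iff.mp a.2).1 g⟩

theorem redO_toOG (a : Zint M G) : redO M G (toOG a) = red a := by
  refine MonoidAlgebra.coeff_injective (Finsupp.ext fun g => ?_)
  rw [coeff_redO, toOG, coeff_ofFun, coeff_red]
  rfl

theorem toOG_mul_self {a : Zint M G} (ha : a * a = a) : toOG a * toOG a = toOG a := by
  refine MonoidAlgebra.coeff_injective (Finsupp.ext fun g => Subtype.ext ?_)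
  rw [coeff_mul_eq_sum, AddSubmonoidClass.coe_finsetSum]
  simp only [Subring.coe_mul, toOG, coeff_ofFun]
  rw [← coeff_mul_eq_sum, ← Subring.coe_mul, ha]

/-- An idempotent of the integral centre in an irreducible representation. -/
theorem repO_toOG {n : ℕ} {χ : IrrCharacter G} (A : G →* Matrix (Fin n) (Fin n) (locRing M))
    (hA : ∀ g, (((A g).trace : locRing M) : ℂ) = (χ : G → ℂ) g) {a : Zint M G} (ha : a * a = a) :
    (zomega χ a = 0 → repO A (toOG a) = 0) ∧ (zomega χ a = 1 → repO A (toOG a) = 1) := by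
  set Q := repO A (toOG a) with hQ
  have hid : Q * Q = Q := by rw [hQ, ← map_mul, toOG_mul_self ha]
  have htr : Q.trace = (zomega χ a : ℂ) * (χ : G → ℂ) 1 := by
    rw [hQ, repO_eq_sum, Matrix.trace_sum, coe_zomega, omega,
      div_mul_cancel₀ _ (CfsgLib.Char.irr_one_ne_zero χ.2), charLin_apply]
    refine Finset.sum_congr rfl fun g _ => ?_
    rw [Matrix.trace_smul, smul_eq_mul, toOG, coeff_ofFun, ← hA g]
    congr 1
    exact (AddMonoidHom.map_trace (locRing M).subtype.toAddMonoidHom (A g)).symm
  have hn : (χ : G → ℂ) 1 = n := by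
    rw [← hA 1, map_one, Matrix.trace_one, Fintype.card_fin]; simp
  constructor
  · intro h0
    exact CfsgLib.Modular.eq_zero_of_idem_trace hid (by rw [htr, h0, Subring.coe_zero, zero_mul])
  · intro h1
    refine (sub_eq_zero.mp (CfsgLib.Modular.eq_zero_of_idem_trace (N := 1 - Q) ?_ ?_)).symm
    · rw [mul_sub, sub_mul, sub_mul, one_mul, one_mul, mul_one, hid, sub_self, sub_zero]
    · rw [Matrix.trace_sub, htr, h1, Subring.coe_one, one_mul, Matrix.trace_one, Fintype.card_fin, hn,
        sub_self]

/-- An integral form of the right size. -/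
theorem exists_form {p d : ℕ} (hM : IsPModular p M) (θ : IrrCharacter G)
    (hd : charDegree (θ : G → ℂ) = d) :
    ∃ A : G →* Matrix (Fin d) (Fin d) (locRing M),
      ∀ g, (((A g).trace : locRing M) : ℂ) = (θ : G → ℂ) g := by
  obtain ⟨n, A, hA⟩ := CfsgLib.Modular.exists_integral_rep hM θ
  obtain rfl : n = d := by
    have h := hA 1
    rw [map_one, Matrix.trace_one, Fintype.card_fin,
      CfsgLib.Blocks.charDegree_eq (CfsgLib.Char.isCharacter_of_isIrr θ.2), hd] at h
    exact_mod_cast h
  exact ⟨A, hA⟩

theorem isZeroDefectForm_of {p d : ℕ} (hM : IsPModular p M) {θ : IrrCharacter G}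
    (hd : charDegree (θ : G → ℂ) = d) (hdvd : p ^ (Nat.card G).factorization p ∣ d)
    (A : G →* Matrix (Fin d) (Fin d) (locRing M))
    (hA : ∀ g, (((A g).trace : locRing M) : ℂ) = (θ : G → ℂ) g) :
    IsZeroDefectForm (res M) p (θ : G → ℂ) A where
  prime := hM.1
  charP := res_charP M hM
  surj := res_surjective M
  irr := θ.2
  trace := hA
  dvd := hdvd

/-- A character of defect zero is alone in its block. -/
theorem blockOf_singleton_of_dvd {p d : ℕ} (hM : IsPModular p M) {θ : IrrCharacter G}
    (hd : charDegree (θ : G → ℂ) = d) (hdvd : p ^ (Nat.card G).factorization p ∣ d) :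
    blockOf M (θ : G → ℂ) = {θ} := by
  obtain ⟨A, hA⟩ := exists_form hM θ hd
  have h := isZeroDefectForm_of hM hd hdvd A hA
  exact CfsgLib.Blocks.blockOf_eq_singleton hM θ (hd ▸ h.not_dvd_cofactor)

end CfsgLib.CharBlocks.EqualDegree
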