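import Cfsg.Agent.Lib.BrauerPairs.Nilpotent

/-!
# Nilpotency from a trivial inertial quotient at a normal defect group
-/

set_option autoImplicit false
set_option linter.unusedSectionVars false

noncomputable section

namespace CfsgLib.CharBlocks.EqualDegree

open Cfsg CfsgLib.Blocks CfsgLib.BrauerPairs

universe u

variable {M : Ideal AlgInt} [M.IsMaximal] {G : Type u} [Group G] [Fintype G] {p : ℕ} [hp : Fact p.Prime]
  {D : Subgroup G}

theorem exists_conj_block [D.Normal] {e : Set (IrrCharacter (Cen D))} (he : IsPBlock M e) (g : G) :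
    ∃ e' : Set (IrrCharacter (Cen D)), IsPBlock M e' ∧
      cjA g (gidem M (Cen D) e) = gidem M (Cen D) e' := by
  have := Fintype.ofFinite (Cen D)
  have hg : g ∈ Subgroup.normalizer (D : Set G) := by
    rw [Subgroup.normalizer_eq_top (H := D)]; trivial
  exact ⟨_, isPBlock_tblock _ he, (gidem_tblock g (cen_iff hg) e).symm⟩

theorem conj_mul_eq_zero [D.Normal] {e : Set (IrrCharacter (Cen D))} (he : IsPBlock M e) {g h : G}
    (hne : cjA g (gidem M (Cen D) e) ≠ cjA h (gidem M (Cen D) e)) :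
    cjA g (gidem M (Cen D) e) * cjA h (gidem M (Cen D) e) = 0 := by
  obtain ⟨e₁, h₁, r₁⟩ := exists_conj_block he g
  obtain ⟨e₂, h₂, r₂⟩ := exists_conj_block he h
  rw [r₁, r₂] at hne ⊢
  exact gidem_mul_of_ne h₁ h₂ fun h => hne (by rw [h])

/-- The top block meets every pair below it. -/
theorem mul_ne_zero_of_le (hM : IsPModular p M) {e : Set (IrrCharacter (Cen D))}
    (hD : IsBrauerPair p M D e) {a : BrauerPairIdx G}
    (h : Relation.ReflTransGen (NormalSubpairRel p M) a ⟨D, e⟩) :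
    gidem M (Cen D) e * pid M a ≠ 0 := by
  induction h using Relation.ReflTransGen.head_induction_on with
  | refl =>
    show gidem M (Cen D) e * gidem M (Cen D) e ≠ 0
    rw [gidem_mul_self hD.2]
    exact gidem_ne_zero hD.2
  | @head x c hxc hrest ih =>
    intro h0
    obtain ⟨-, hc, -, -, hfix, hocc⟩ := (normalSubpair_iff hM).mp hxc
    have hcD : c.1 ≤ D := subgroup_le (b := ⟨D, e⟩) hrest
    have hefix : IsFixed c.1 (gidem M (Cen D) e) := fun u hu =>
      ((mem_stab_iff hD.2).mpr ((mem_stab_iff hD.2).mp (le_stab (M := M) e (hcD hu)))).2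
    have h1 : gidem M (Cen D) e * br c.1 (gidem M (Cen x.1) x.2) = 0 := by
      have h2 := br_mul hM hc.1 hefix hfix
      rw [show gidem M (Cen D) e * gidem M (Cen x.1) x.2 = 0 from h0, br_zero,
        br_eq_self (x := gidem M (Cen D) e)
          (fun g hg => (centralIn_gidem e).1 g fun h => hg (centralizer_anti hcD h))] at h2
      exact h2.symm
    apply ih
    show gidem M (Cen D) e * gidem M (Cen c.1) c.2 = 0
    rw [← hocc, ← mul_assoc, h1, zero_mul]

set_option maxHeartbeats 1000000 in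
/-- Inside a normal defect group every fusion is induced by the inertial group. -/
theorem exists_inner (hM : IsPModular p M) [D.Normal] {e : Set (IrrCharacter (Cen D))}
    (hD : IsBrauerPair p M D e) (hT : stab M D e ≤ D ⊔ Cen D) {Q : Subgroup G}
    {f : Set (IrrCharacter (Cen Q))} (hQ : IsBrauerPair p M Q f)
    (h : Relation.ReflTransGen (NormalSubpairRel p M) (⟨Q, f⟩ : BrauerPairIdx G) ⟨D, e⟩)
    {y : G} (hy : y ∈ Subgroup.normalizer (Q : Set G))
    (hyf : cjA y (gidem M (Cen Q) f) = gidem M (Cen Q) f) :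
    ∃ v ∈ D, ∀ q ∈ Q, y * q * y⁻¹ = v * q * v⁻¹ := by
  classical
  have hQD : Q ≤ D := subgroup_le (a := ⟨Q, f⟩) (b := ⟨D, e⟩) h
  have hne : gidem M (Cen D) e * gidem M (Cen Q) f ≠ 0 := mul_ne_zero_of_le hM hD (a := ⟨Q, f⟩) h
  obtain ⟨E, hE⟩ : ∃ E, E = gidem M (Cen D) e := ⟨_, rfl⟩
  rw [← hE] at hne
  let O : Finset (KG M G) := (Finset.univ.filter fun c : G => c ∈ Cen Q).image fun c => cjA c E
  have hmem : ∀ z, z ∈ O ↔ ∃ c ∈ Cen Q, cjA c E = z := fun z => by simp [O]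
  have hEmem : E ∈ O := (hmem E).mpr ⟨1, one_mem _, cjA_one E⟩
  have horth : ∀ z ∈ O, ∀ g : G, cjA g E ≠ z → cjA g E * z = 0 := fun z hz g hg => by
    obtain ⟨c, -, rfl⟩ := (hmem z).mp hz
    rw [hE] at hg ⊢
    exact conj_mul_eq_zero hD.2 hg
  have hid : ∀ z ∈ O, z * z = z := fun z hz => by
    obtain ⟨c, -, rfl⟩ := (hmem z).mp hz
    rw [← map_mul, hE, gidem_mul_self hD.2]
  have hsum : ∀ g : G, cjA g E * ∑ z ∈ O, z = if cjA g E ∈ O then cjA g E else 0 := by
    intro g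
    rw [Finset.mul_sum]
    split_ifs with hg
    · rw [Finset.sum_eq_single (cjA g E) (fun z hz hne' => horth z hz g (Ne.symm hne'))
        (fun hn => absurd hg hn), hid _ hg]
    · exact Finset.sum_eq_zero fun z hz => horth z hz g fun h => hg (h ▸ hz)
  have hsupp : ∀ g, g ∉ Cen Q → ∀ z ∈ O, z.coeff g = 0 := fun g hg z hz => by
    obtain ⟨c, hc, rfl⟩ := (hmem z).mp hz
    rw [coeff_cjA]
    rw [hE]
    refine (centralIn_gidem e).1 _ fun h1 => hg ?_
    have h2 := centralizer_anti hQD h1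
    have := (Cen Q).mul_mem ((Cen Q).mul_mem hc h2) ((Cen Q).inv_mem hc)
    simpa [mul_assoc] using this
  have hcen : CentralIn (Cen Q) (∑ z ∈ O, z) := by
    refine ⟨fun g hg => ?_, fun u hu => ?_⟩
    · rw [MonoidAlgebra.coeff_sum, Finsupp.finsetSum_apply]
      exact Finset.sum_eq_zero (hsupp g hg)
    · rw [map_sum]
      refine Finset.sum_bij' (fun z _ => cjA u z) (fun z _ => cjA u⁻¹ z) ?_ ?_
        (fun z _ => cjA_inv_cjA u z) (fun z _ => cjA_cjA_inv u z) (fun z _ => rfl)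
      · intro z hz
        obtain ⟨c, hc, rfl⟩ := (hmem z).mp hz
        exact (hmem _).mpr ⟨u * c, mul_mem hu hc, (cjA_cjA u c E).symm⟩
      · intro z hz
        obtain ⟨c, hc, rfl⟩ := (hmem z).mp hz
        exact (hmem _).mpr ⟨u⁻¹ * c, mul_mem (inv_mem hu) hc, (cjA_cjA u⁻¹ c E).symm⟩
  have hids : (∑ z ∈ O, z) * (∑ z ∈ O, z) = ∑ z ∈ O, z := by
    conv_lhs => rw [Finset.sum_mul]
    refine Finset.sum_congr rfl fun z hz => ?_
    obtain ⟨c, -, rfl⟩ := (hmem z).mp hz
    rw [hsum, if_pos hz]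
  have hocc : (∑ z ∈ O, z) * gidem M (Cen Q) f = gidem M (Cen Q) f := by
    refine (occurs_cases hcen hids hQ.2).resolve_right fun h0 => hne ?_
    have h1 := hsum 1
    rw [cjA_one, if_pos hEmem] at h1
    rw [← h1, mul_assoc, h0, mul_zero]
  have hyO : cjA y E ∈ O := by
    by_contra hn
    apply hne
    have h1 : cjA y E * gidem M (Cen Q) f = 0 := by
      rw [← hocc, ← mul_assoc, hsum, if_neg hn, zero_mul]
    apply (cjA (M := M) y).injective
    rw [map_mul, hyf, map_zero, h1]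
  obtain ⟨c, hc, hce⟩ := (hmem _).mp hyO
  have hst : c⁻¹ * y ∈ stab M D e := by
    refine ⟨by rw [Subgroup.normalizer_eq_top (H := D)]; trivial, ?_⟩
    show cjA (c⁻¹ * y) (gidem M (Cen D) e) = gidem M (Cen D) e
    rw [← hE]
    rw [← cjA_cjA, ← hce, cjA_inv_cjA]
  obtain ⟨v, hv, w, hw, hvw⟩ := Subgroup.mem_sup_of_normal_right.mp (hT hst)
  refine ⟨v, hv, fun q hq => ?_⟩
  have h1 : y = c * (v * w) := by rw [hvw, mul_inv_cancel_left]
  have h2 := Subgroup.mem_centralizer_iff.mp hw q (hQD hq)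
  have h3 : y * q * y⁻¹ ∈ Q := (Subgroup.mem_set_normalizer_iff.mp hy q).mp hq
  have h4 := Subgroup.mem_centralizer_iff.mp hc _ h3
  calc y * q * y⁻¹ = c⁻¹ * (c * (y * q * y⁻¹)) := by group
    _ = c⁻¹ * ((y * q * y⁻¹) * c) := by rw [h4]
    _ = v * (w * q) * w⁻¹ * v⁻¹ := by rw [h1]; group
    _ = v * (q * w) * w⁻¹ * v⁻¹ := by rw [h2]
    _ = v * q * v⁻¹ := by group

/-- **Nilpotency.** -/
theorem nilpotent_of_stab_le (hM : IsPModular p M) [D.Normal] {B : Set (IrrCharacter G)}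
    {e : Set (IrrCharacter (Cen D))} (hmax : IsMaximalBrauerPair p M B D e)
    (hT : stab M D e ≤ D ⊔ Cen D) : IsNilpotentBlock p M B := by
  refine ⟨hmax.1.2.1, fun Q f hQ x hxn hxs hxr => ?_⟩
  obtain ⟨g, hg⟩ := exists_conj_le_maximal hM (a := ⟨Q, f⟩) (b := ⟨D, e⟩) hmax hQ
  set a : BrauerPairIdx G := cjPair g ⟨Q, f⟩ with ha
  have hab := isBrauerPair_left hg hmax.1.1
  have hx : cjPair x (⟨Q, f⟩ : BrauerPairIdx G) = ⟨Q, f⟩ :=
    pair_ext (M := M) (isBrauerPair_cjPair x (a := ⟨Q, f⟩) hQ.1).2 hQ.1.2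
      (map_conj_eq_self hxn)
      (by rw [pid_cjPair]; exact ((stabilizesBlock_iff hQ.1.2).mp hxs).2)
  have hy : cjPair (g * x * g⁻¹) a = a := cjPair_conj hQ.1 hx
  have hyn : g * x * g⁻¹ ∈ Subgroup.normalizer ((a.1 : Subgroup G) : Set G) :=
    Subgroup.mem_normalizer_iff_map_conj_eq.mpr (congrArg Sigma.fst hy)
  have hyf : cjA (g * x * g⁻¹) (pid M a) = pid M a := by rw [← pid_cjPair, hy]
  obtain ⟨v, hv, hvq⟩ := exists_inner hM hmax.1.1 hT hab hg hyn hyf
  have hyr : IsPRegular p (g * x * g⁻¹) := by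
    show ¬ p ∣ orderOf (g * x * g⁻¹)
    rwa [show g * x * g⁻¹ = MulAut.conj g x by simp, MulEquiv.orderOf_eq]
  have h2 := mem_centralizer_of_inner hmax.1.1.1 hyn hyr hv hvq
  have h3 := mem_centralizer_map_conj.mp h2
  simpa [mul_assoc] using h3

end CfsgLib.CharBlocks.EqualDegree
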