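import Cfsg.Agent.Lib.CharBlocks.EqualDegree.Block
import Cfsg.Agent.Lib.CharBlocks.EqualDegree.Pairs
import Cfsg.Agent.Lib.BrauerPairs.Stable
import Cfsg.Agent.Lib.BrauerPairs.Cover
import Cfsg.Agent.Lib.NilBlock.Main
import Cfsg.Agent.Lib.Blocks.CanonicalChar
import Cfsg.Agent.Lib.Blocks.QuotientBlocks
import Cfsg.Agent.Lib.PStab.QuadPair
import Cfsg.Agent.Lib.Char.Ito

/-!
# Normal defect groups: equal height-zero degrees iff nilpotent
-/

set_option autoImplicit false
set_option linter.unusedSectionVars false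

noncomputable section

namespace CfsgLib.CharBlocks.EqualDegree

open Cfsg CfsgLib.Blocks CfsgLib.BrauerPairs CfsgLib.DefectZero
open scoped commutatorElement

attribute [local instance] CfsgLib.Blocks.resField
set_option synthInstance.maxHeartbeats 200000

universe u

section generic

variable {k : Type*} [Field k] {G H : Type*} [Group G] [Fintype G] [Group H] [Fintype H]

theorem coeff_mapDom_eq_zero (f : G →* H) (y : MonoidAlgebra k G) {h : H}
    (hy : ∀ g, f g = h → y.coeff g = 0) :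
    (MonoidAlgebra.mapDomainRingHom k f y).coeff h = 0 := by
  classical
  rw [MonoidAlgebra.mapDomainRingHom_apply, MonoidAlgebra.coeff_mapDomain, Finsupp.mapDomain,
    Finsupp.sum_apply, Finsupp.sum_fintype _ _ (fun g => by simp)]
  refine Finset.sum_eq_zero fun g _ => ?_
  rw [Finsupp.single_apply]
  split_ifs with h'
  · exact hy g h'
  · rfl

theorem mapDom_single (f : G →* H) (g : G) (c : k) :
    MonoidAlgebra.mapDomainRingHom k f (MonoidAlgebra.single g c) = MonoidAlgebra.single (f g) c := by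
  rw [MonoidAlgebra.mapDomainRingHom_apply, MonoidAlgebra.mapDomain_single]

theorem mapDom_cjm (f : G →* H) (g : G) (y : MonoidAlgebra k G) :
    MonoidAlgebra.mapDomainRingHom k f (MonoidAlgebra.mapDomainRingEquiv k (MulAut.conj g) y) =
      MonoidAlgebra.mapDomainRingEquiv k (MulAut.conj (f g)) (MonoidAlgebra.mapDomainRingHom k f y) := by
  rw [cjm_eq_mul, cjm_eq_mul, map_mul, map_mul, mapDom_single, mapDom_single, map_inv]

theorem mapDom_comp {K : Type*} [Group K] (f : G →* H) (g : H →* K) (y : MonoidAlgebra k G) :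
    MonoidAlgebra.mapDomainRingHom k g (MonoidAlgebra.mapDomainRingHom k f y) =
      MonoidAlgebra.mapDomainRingHom k (g.comp f) y := by
  rw [MonoidAlgebra.mapDomainRingHom_comp, RingHom.comp_apply]

theorem lext_map (f : G →* H) (F : H → k) (y : MonoidAlgebra k G) :
    lext F (MonoidAlgebra.mapDomainRingHom k f y) = lext (fun g => F (f g)) y := by
  induction y using MonoidAlgebra.induction_linear with
  | zero => simp
  | add a b ha hb => rw [map_add, map_add, map_add, ha, hb]
  | single g c =>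
    rw [mapDom_single, show MonoidAlgebra.single (f g) c = c • MonoidAlgebra.single (f g) (1 : k) by
        rw [MonoidAlgebra.smul_single', mul_one],
      show MonoidAlgebra.single g c = c • MonoidAlgebra.single g (1 : k) by
        rw [MonoidAlgebra.smul_single', mul_one], map_smul, map_smul, lext_single, lext_single]

theorem lext_trace (F : G → k) (hF : ∀ a b, F (a * b) = F (b * a)) (x y : MonoidAlgebra k G) :
    lext F (x * y) = lext F (y * x) := by
  refine linear_ext (φ := (lext F).comp (LinearMap.mulRight k y))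
    (ψ := (lext F).comp (LinearMap.mulLeft k y)) (fun a => ?_) x
  refine linear_ext (φ := (lext F).comp (LinearMap.mulLeft k (MonoidAlgebra.single a 1)))
    (ψ := (lext F).comp (LinearMap.mulRight k (MonoidAlgebra.single a 1))) (fun b => ?_) y
  simp only [LinearMap.comp_apply, LinearMap.mulLeft_apply, LinearMap.mulRight_apply,
    MonoidAlgebra.single_mul_single, one_mul, lext_single]
  exact hF a b

end generic

variable {M : Ideal AlgInt} [M.IsMaximal] {p : ℕ}

/-- The kernel of a push-forward along a `p`-kernel consists of nilpotent elements. -/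
theorem ne_zero_push (hM : IsPModular p M) {G : Type*} [Group G] [Fintype G] {V : Subgroup G} [V.Normal]
    (hV : IsPGroup p V) {y : MonoidAlgebra (Res M) G} (hy : y * y = y) (h0 : y ≠ 0) :
    MonoidAlgebra.mapDomainRingHom (Res M) (QuotientGroup.mk' V) y ≠ 0 := by
  intro h
  have : Fact p.Prime := ⟨hM.1⟩
  have : CharP (Res M) p := res_charP M hM
  obtain ⟨n, hn⟩ := CfsgLib.BlockArith.aug_isNilpotent_of_normal_pGroup (p := p) hV h
  have hpow : ∀ j : ℕ, y ^ (j + 1) = y := by
    intro j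
    induction j with
    | zero => rw [pow_one]
    | succ j ih => rw [pow_succ, ih, hy]
  exact h0 (by rw [← hpow n, pow_succ, hn, zero_mul])

/-- Uniqueness at the central product. -/
theorem eq_of_inflations (hM : IsPModular p M) {L K : Type*} [Group L] [Fintype L] [Group K] [Fintype K]
    {Q : Subgroup L} [Q.Normal] (hQ : IsPGroup p Q)
    (hC : ∃ j : ℕ, (Subgroup.centralizer (Q : Set L)).index = p ^ j) (f : L →* K)
    (hf : Function.Surjective f) (hker : f.ker = Q) {ψ ψ' : IrrCharacter K}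
    (hdvd : p ^ (Nat.card K).factorization p ∣ charDegree (ψ : K → ℂ)) {η η' : IrrCharacter L}
    (hη : (η : L → ℂ) = (ψ : K → ℂ) ∘ f) (hη' : (η' : L → ℂ) = (ψ' : K → ℂ) ∘ f)
    (h : SameBlock M (η : L → ℂ) (η' : L → ℂ)) : ψ = ψ' := by
  classical
  have : Fact p.Prime := ⟨hM.1⟩
  let _ := Fintype.ofFinite (L ⧸ Q)
  let ι : L ⧸ Q ≃* K := (QuotientGroup.quotientMulEquivOfEq hker.symm).trans
    (QuotientGroup.quotientKerEquivOfSurjective f hf)
  have hι : ∀ x : L, ι (x : L ⧸ Q) = f x := fun x => rfl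
  let χ : IrrCharacter (L ⧸ Q) :=
    ⟨_, CfsgLib.Weight.isIrr_comp_of_surjective ι.toMonoidHom ι.surjective ψ.2⟩
  let χ' : IrrCharacter (L ⧸ Q) :=
    ⟨_, CfsgLib.Weight.isIrr_comp_of_surjective ι.toMonoidHom ι.surjective ψ'.2⟩
  have hd : charDegree (χ : L ⧸ Q → ℂ) = charDegree (ψ : K → ℂ) := by
    show charDegree ((ψ : K → ℂ) ∘ ι.toMonoidHom) = _
    simp [charDegree]
  have hcard : Nat.card (L ⧸ Q) = Nat.card K := Nat.card_congr ι.toEquiv
  have hsing := blockOf_singleton_of_dvd hM (θ := χ) hd (by rw [hcard]; exact hdvd)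
  have e : ∀ (φ : IrrCharacter K) (ζ : IrrCharacter L), (ζ : L → ℂ) = (φ : K → ℂ) ∘ f →
      (ζ : L → ℂ) = ((φ : K → ℂ) ∘ ι.toMonoidHom) ∘ QuotientGroup.mk := fun φ ζ hζ => by
    rw [hζ]; exact funext fun x => congrArg (φ : K → ℂ) (hι x).symm
  have hsame : SameBlock M (χ : L ⧸ Q → ℂ) (χ' : L ⧸ Q → ℂ) := by
    rw [sameBlock_inflation_iff hM hQ hC χ χ']
    show SameBlock M (((ψ : K → ℂ) ∘ ι.toMonoidHom) ∘ QuotientGroup.mk)
      (((ψ' : K → ℂ) ∘ ι.toMonoidHom) ∘ QuotientGroup.mk)
    rwa [← e ψ η hη, ← e ψ' η' hη']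
  have hmem : χ' ∈ blockOf M (χ : L ⧸ Q → ℂ) :=
    mem_of_bomega_eq (isPBlock_blockOf χ) (mem_blockOf_self χ) ((sameBlock_iff χ χ').mp hsame)
  rw [hsing, Set.mem_singleton_iff] at hmem
  refine (Subtype.ext (funext fun x => ?_)).symm
  obtain ⟨z, rfl⟩ := ι.surjective x
  exact congrFun (congrArg Subtype.val hmem) z

variable [hp : Fact p.Prime] {G : Type u} [Group G] [Fintype G]

/-- Modulo the inertial group's Sylow part nothing of order `p` is left. -/
theorem not_dvd_index_inertial (hM : IsPModular p M) {B : Set (IrrCharacter G)} {D : Subgroup G}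
    [D.Normal] {e : Set (IrrCharacter (Cen D))} (hmax : IsMaximalBrauerPair p M B D e) :
    ¬ p ∣ ((D ⊔ Cen D).subgroupOf (stab M D e)).index := by
  classical
  have hF := blockFusion_spec hM hmax
  have hb := hmax.1.1
  have hle : SubpairLE p M D e D e := Relation.ReflTransGen.refl
  obtain ⟨F', hF', hgF, -⟩ := exists_stable_block hM hb.1 hb.2 (le_stab e) (cen_le_stab e)
    inf_le_left (fun y hy => hy.2)
  have hD := (fullyNormalized_iff hM hF hle (fun y => mem_stab_iff hb.2) hF' hgF).mp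
    (fullyNormalized_top (blockFusion hM hmax))
  have h1 := not_dvd_index_stable hM (cen_le_stab e) inf_le_left hb.2 (fun y hy => hy.2) hF' hgF hD
  rw [Subgroup.normalizer_eq_top (H := D), inf_top_eq,
    ← Subgroup.subgroupOf_sup (cen_le_stab e) (le_stab e), sup_comm] at h1
  exact h1

/-- An element of the inertial group outside `D C(D)` moves the Frattini quotient of `D`. -/
theorem exists_not_commute (hM : IsPModular p M) {B : Set (IrrCharacter G)} {D : Subgroup G}
    [D.Normal] {e : Set (IrrCharacter (Cen D))} (hmax : IsMaximalBrauerPair p M B D e) {g : G}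
    (hg : g ∈ stab M D e) (hgN : g ∉ D ⊔ Cen D) :
    ∃ a : ℕ, ¬ p ∣ orderOf (g ^ p ^ a) ∧
      ∃ x ∈ D, ⁅g ^ p ^ a, x⁆ ∉ (frattini D).map D.subtype := by
  classical
  set T := stab M D e
  set a := (orderOf g).factorization p
  have hreg : ¬ p ∣ orderOf (g ^ p ^ a) := by
    rw [orderOf_pow_of_dvd (pow_ne_zero _ hp.out.ne_zero) (Nat.ordProj_dvd _ p)]
    exact Nat.not_dvd_ordCompl hp.out (orderOf_pos _).ne'
  refine ⟨a, hreg, ?_⟩
  by_contra hall
  push Not at hall
  have hcen : g ^ p ^ a ∈ Cen D := CfsgLib.PStab.mem_centralizer_of_frattini hmax.1.1.1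
    (by rw [Subgroup.normalizer_eq_top (H := D)]; trivial)
    ((hp.out.coprime_iff_not_dvd.mpr hreg).symm) hall
  have : ((D ⊔ Cen D).subgroupOf T).Normal :=
    (inferInstance : (D ⊔ Cen D).Normal).subgroupOf T
  set q : T ⧸ (D ⊔ Cen D).subgroupOf T := ((⟨g, hg⟩ : T) : T ⧸ (D ⊔ Cen D).subgroupOf T)
  have h1 : q ^ p ^ a = 1 := by
    rw [← QuotientGroup.mk_pow, QuotientGroup.eq_one_iff, Subgroup.mem_subgroupOf]
    exact (le_sup_right : Cen D ≤ _) (by simpa using hcen)
  have h2 : orderOf q ∣ ((D ⊔ Cen D).subgroupOf T).index := orderOf_dvd_natCard q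
  have h3 : orderOf q = 1 := Nat.eq_one_of_dvd_coprimes
    (Nat.Coprime.pow_left a (hp.out.coprime_iff_not_dvd.mpr (not_dvd_index_inertial hM hmax)))
    (orderOf_dvd_of_pow_eq_one h1) h2
  exact hgN (Subgroup.mem_subgroupOf.mp ((QuotientGroup.eq_one_iff _).mp (orderOf_eq_one_iff.mp h3)))

set_option maxHeartbeats 1600000 in
/-- **Equal degrees force a trivial inertial quotient.** -/
theorem stab_le_of_equal_degrees (hM : IsPModular p M) {B : Set (IrrCharacter G)} (hB : IsPBlock M B)
    {D : Subgroup G} [D.Normal] (hDd : IsDefectGroup p M B D) {e : Set (IrrCharacter (Cen D))}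
    (hmax : IsMaximalBrauerPair p M B D e) {d : ℕ}
    (hd : ∀ χ : IrrCharacter G, χ ∈ B → blockHeight p B (χ : G → ℂ) = 0 →
      charDegree (χ : G → ℂ) = d) : stab M D e ≤ D ⊔ Cen D := by
  classical
  have : CharP (Res M) p := res_charP M hM
  have hDp : IsPGroup p D := hmax.1.1.1
  have heb := hmax.1.1.2
  obtain ⟨η₀, hη₀, hη₀h⟩ := exists_height_zero hM hB
  have hd0 : d ≠ 0 := hd η₀ hη₀ hη₀h ▸ charDegree_ne_zero η₀
  obtain ⟨m, rfl⟩ : ∃ m, d = m + 1 := ⟨d - 1, by omega⟩
  -- the quotient by the Frattini subgroup of `D`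
  obtain ⟨Φ, hΦdef⟩ : ∃ Φ : Subgroup G, Φ = (frattini D).map D.subtype := ⟨_, rfl⟩
  have : Φ.Normal := by
    subst hΦdef
    exact ConjAct.normal_of_characteristic_of_normal
  have hΦD : Φ ≤ D := hΦdef ▸ Subgroup.map_subtype_le _
  let _ := Fintype.ofFinite (G ⧸ Φ)
  let q : G →* G ⧸ Φ := QuotientGroup.mk' Φ
  have hq : Function.Surjective q := QuotientGroup.mk'_surjective Φ
  obtain ⟨V, hV⟩ : ∃ V : Subgroup (G ⧸ Φ), V = D.map q := ⟨_, rfl⟩
  have hVn : V.Normal := hV ▸ Subgroup.Normal.map inferInstance q hq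
  obtain ⟨N, hN⟩ : ∃ N : Subgroup (G ⧸ Φ), N = (D ⊔ Cen D).map q := ⟨_, rfl⟩
  have hNn : N.Normal := hN ▸ Subgroup.Normal.map inferInstance q hq
  have hVp : IsPGroup p V := hV ▸ hDp.map q
  have hΦp : IsPGroup p Φ := hDp.to_le hΦD
  have hqmem : ∀ {x : G} {S : Subgroup G}, Φ ≤ S → q x ∈ S.map q → x ∈ S := fun {x S} hS hx => by
    have h1 : x ∈ (S.map q).comap q := hx
    rwa [Subgroup.comap_map_eq, QuotientGroup.ker_mk', sup_eq_left.mpr hS] at h1
  have hVab : ∀ u ∈ V, ∀ v ∈ V, u * v = v * u := by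
    rw [hV]
    rintro _ ⟨u, hu, rfl⟩ _ ⟨v, hv, rfl⟩
    rw [← map_mul, ← map_mul]
    refine QuotientGroup.eq.mpr ?_
    rw [hΦdef]
    exact ⟨((⟨u, hu⟩ : D) * ⟨v, hv⟩)⁻¹ * (⟨v, hv⟩ * ⟨u, hu⟩), QuotientGroup.eq.mp (by
      rw [QuotientGroup.mk_mul, QuotientGroup.mk_mul]
      exact CfsgLib.PGroup.quotient_frattini_comm hDp _ _), rfl⟩
  have hVexp : ∀ v ∈ V, v ^ p = 1 := by
    rw [hV]
    rintro _ ⟨u, hu, rfl⟩
    rw [← map_pow]
    refine (QuotientGroup.eq_one_iff _).mpr ?_
    rw [hΦdef]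
    exact ⟨(⟨u, hu⟩ : D) ^ p, CfsgLib.PGroup.pow_mem_frattini hDp _, rfl⟩
  -- the group modulo `V`
  let _ := Fintype.ofFinite ((G ⧸ Φ) ⧸ V)
  let π : (G ⧸ Φ) →* (G ⧸ Φ) ⧸ V := QuotientGroup.mk' V
  let h : G →* (G ⧸ Φ) ⧸ V := π.comp q
  have hh : Function.Surjective h := (QuotientGroup.mk'_surjective V).comp hq
  have hhker : h.ker = D := by
    ext x
    show π (q x) = 1 ↔ _
    rw [QuotientGroup.mk'_apply, QuotientGroup.eq_one_iff, hV]
    exact ⟨hqmem hΦD, fun hx => ⟨x, hx, rfl⟩⟩
  have hcardH : Nat.card ((G ⧸ Φ) ⧸ V) = D.index := by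
    show V.index = D.index
    rw [hV, Subgroup.index_map_eq _ hq (by rw [QuotientGroup.ker_mk']; exact hΦD)]
  -- the block
  have hidem : idem hB * idem hB = idem hB := idem_mul_self hB
  obtain ⟨a, hac, hared, haom⟩ := exists_push q hq (idem hB)
  have ha : a * a = a := mapDomain_mul_self hidem hac
  have hdefD : (Nat.card D).factorization p = blockDefect p B := by
    rw [card_defectGroup hM hB hDd, hp.out.factorization_pow, Finsupp.single_eq_same]
  have hGfac : (Nat.card G).factorization p = (Nat.card D).factorization p + D.index.factorization p := by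
    rw [← D.card_mul_index, Nat.factorization_mul Nat.card_pos.ne' Subgroup.index_ne_zero_of_finite,
      Finsupp.add_apply]
  have hdegA : ∀ χ : IrrCharacter (G ⧸ Φ), zomega χ a = 1 →
      charDegree (χ : G ⧸ Φ → ℂ) = m + 1 := by
    intro χ hχ
    let η : IrrCharacter G := ⟨_, CfsgLib.CharNormal.isIrr_comp_mk' Φ χ.2⟩
    have hηeq : charDegree (η : G → ℂ) = charDegree (χ : G ⧸ Φ → ℂ) := by
      show charDegree ((χ : G ⧸ Φ → ℂ) ∘ QuotientGroup.mk) = _
      simp [charDegree]
    have hηB : η ∈ B := by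
      have h1 := haom χ η rfl
      rw [hχ, zomega_idem hB] at h1
      by_contra hn
      rw [if_neg hn] at h1
      exact one_ne_zero h1
    refine hηeq ▸ hd η hηB ?_
    have h2 := degree_height hM hB hηB
    have hcd := CfsgLib.Blocks.charDegree_eq (CfsgLib.Char.isCharacter_of_isIrr χ.2)
    have h3 := CfsgLib.Char.degree_dvd_index_abelian_normal V hVab χ.2 hcd
    rw [show V.index = D.index from hcardH] at h3
    have h4 := (Nat.factorization_le_iff_dvd (charDegree_ne_zero χ)
      Subgroup.index_ne_zero_of_finite).mpr h3 p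
    rw [hηeq] at h2
    omega
  have hdvd : p ^ (Nat.card ((G ⧸ Φ) ⧸ V)).factorization p ∣ m + 1 := by
    rw [hp.out.pow_dvd_iff_le_factorization (by omega), hcardH]
    have h2 := degree_height hM hB hη₀
    rw [hd η₀ hη₀ hη₀h, hη₀h] at h2
    omega
  obtain ⟨b, hbc, hbred, hbom⟩ := exists_push π (QuotientGroup.mk'_surjective V) a
  have hdegB : ∀ φ : IrrCharacter ((G ⧸ Φ) ⧸ V), zomega φ b = 1 →
      charDegree (φ : (G ⧸ Φ) ⧸ V → ℂ) = m + 1 := by
    intro φ hφ
    have h1 := hdegA ⟨_, CfsgLib.CharNormal.isIrr_comp_mk' V φ.2⟩ (by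
      rw [← hbom φ ⟨_, CfsgLib.CharNormal.isIrr_comp_mk' V φ.2⟩ rfl, hφ])
    rw [← h1]
    show charDegree (φ : (G ⧸ Φ) ⧸ V → ℂ) =
      charDegree ((φ : (G ⧸ Φ) ⧸ V → ℂ) ∘ QuotientGroup.mk)
    simp [charDegree]
  -- the idempotent of the pair
  obtain ⟨E, hE⟩ : ∃ E, E = gidem M (Cen D) e := ⟨_, rfl⟩
  have hEE : E * E = E := hE ▸ gidem_mul_self heb
  have hEB : E * red (idem hB) = E := by
    have h1 := ((brauerPairOf_iff hM).mp hmax.1).2.2
    rw [br_eq_self_normal hM hDp hB, gidemTop_eq hB] at h1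
    rw [hE, ← red_commute, h1]
  have hEfix : ∀ n ∈ D ⊔ Cen D, cjA n E = E := fun n hn => by
    have : n ∈ stab M D e := (sup_le (le_stab e) (cen_le_stab e)) hn
    rw [hE]; exact this.2
  obtain ⟨ε, hε⟩ : ∃ ε, ε = MonoidAlgebra.mapDomainRingHom (Res M) q E := ⟨_, rfl⟩
  have hεε : ε * ε = ε := by rw [hε, ← map_mul, hEE]
  have hε0 : ε ≠ 0 := hε ▸ ne_zero_push hM hΦp hEE (hE ▸ gidem_ne_zero heb)
  have hεa : ε * red a = ε := by rw [hε, hared, ← map_mul, hEB]
  have hεsupp : ∀ x, x ∉ N → ε.coeff x = 0 := fun x hx => by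
    rw [hε]
    refine coeff_mapDom_eq_zero q E fun g hg => ?_
    rw [hE]
    exact (centralIn_gidem e).1 g fun h1 => hx (hN ▸ ⟨g, (le_sup_right : Cen D ≤ _) h1, hg⟩)
  have hεcomm : ∀ x ∈ N, MonoidAlgebra.single x 1 * ε = ε * MonoidAlgebra.single x 1 := by
    rw [hN]
    rintro _ ⟨n, hn, rfl⟩
    have h1 : MonoidAlgebra.single n 1 * E = E * MonoidAlgebra.single n 1 := by
      have h2 := hEfix n hn
      rw [cjA, cjm_eq_mul] at h2
      conv_rhs => rw [← h2]
      rw [mul_assoc _ (MonoidAlgebra.single n⁻¹ (1 : Res M)), MonoidAlgebra.single_mul_single,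
        inv_mul_cancel, one_mul, ← MonoidAlgebra.one_def, mul_one]
    have h3 := congrArg (MonoidAlgebra.mapDomainRingHom (Res M) q) h1
    rwa [map_mul, map_mul, mapDom_single, ← hε] at h3
  -- conjugates of the pair
  have hlift : ∀ g : G, MonoidAlgebra.single (q g) 1 * ε ≠ ε * MonoidAlgebra.single (q g) 1 →
      cjA g E ≠ E := by
    intro g hne h0
    apply hne
    have h1 := congrArg (MonoidAlgebra.mapDomainRingHom (Res M) q) h0
    rw [cjA, mapDom_cjm, ← hε, cjm_eq_mul] at h1
    conv_rhs => rw [← h1]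
    rw [mul_assoc _ (MonoidAlgebra.single (q g)⁻¹ (1 : Res M)), MonoidAlgebra.single_mul_single,
      inv_mul_cancel, one_mul, ← MonoidAlgebra.one_def, mul_one]
  have horth : ∀ x : G ⧸ Φ, MonoidAlgebra.single x 1 * ε ≠ ε * MonoidAlgebra.single x 1 →
      ε * MonoidAlgebra.single x 1 * ε = 0 := by
    intro x hx
    obtain ⟨g, rfl⟩ := hq x
    have h0 : E * cjA g E = 0 := by
      have h1 := conj_mul_eq_zero heb (g := 1) (h := g) (by
        rw [cjA_one, ← hE]
        exact fun h => hlift g hx h.symm)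
      rwa [cjA_one, ← hE] at h1
    have h2 : E * MonoidAlgebra.single g 1 * E = 0 := by
      calc E * MonoidAlgebra.single g 1 * E = E * (cjA g E * MonoidAlgebra.single g 1) := by
            rw [cjA, cjm_eq_mul, mul_assoc E]
            congr 1
            rw [mul_assoc _ (MonoidAlgebra.single g⁻¹ (1 : Res M)), MonoidAlgebra.single_mul_single,
              inv_mul_cancel, one_mul, ← MonoidAlgebra.one_def, mul_one]
        _ = 0 := by rw [← mul_assoc, h0, zero_mul]
    have h3 := congrArg (MonoidAlgebra.mapDomainRingHom (Res M) q) h2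
    rwa [map_mul, map_mul, mapDom_single, ← hε, map_zero] at h3
  have hstab : ∀ g : G, MonoidAlgebra.single (q g) 1 * ε = ε * MonoidAlgebra.single (q g) 1 →
      g ∈ stab M D e := by
    intro g hg
    refine ⟨by rw [Subgroup.normalizer_eq_top (H := D)]; trivial, ?_⟩
    show cjA g (gidem M (Cen D) e) = _
    rw [← hE]
    by_contra hne
    apply hε0
    have h1 := conj_mul_eq_zero heb (g := 1) (h := g) (by rw [cjA_one, ← hE]; exact Ne.symm hne)
    rw [cjA_one, ← hE] at h1
    have h2 := congrArg (MonoidAlgebra.mapDomainRingHom (Res M) q) h1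
    rw [map_mul, map_zero, cjA, mapDom_cjm, ← hε, cjm_eq_mul, hg, mul_assoc ε _ (MonoidAlgebra.single _ _),
      MonoidAlgebra.single_mul_single, mul_inv_cancel, one_mul, ← MonoidAlgebra.one_def, mul_one,
      hεε] at h2
    exact h2
  -- the character of `N / V`
  obtain ⟨K, hK⟩ : ∃ K : Subgroup ((G ⧸ Φ) ⧸ V), K = (D ⊔ Cen D).map h := ⟨_, rfl⟩
  have hKn : K.Normal := hK ▸ Subgroup.Normal.map inferInstance h hh
  let _ := Fintype.ofFinite K
  obtain ⟨x, hx⟩ : ∃ x, x = MonoidAlgebra.mapDomainRingHom (Res M) π ε := ⟨_, rfl⟩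
  have hxE : x = MonoidAlgebra.mapDomainRingHom (Res M) h E := by rw [hx, hε, mapDom_comp]
  have hxx : x * x = x := by rw [hx, ← map_mul, hεε]
  have hx0 : x ≠ 0 := hx ▸ ne_zero_push hM hVp hεε hε0
  have hxb : x * red b = x := by rw [hx, hbred, ← map_mul, hεa]
  have hxc : CentralIn K x := by
    refine ⟨fun y hy => ?_, fun u hu => ?_⟩
    · rw [hxE]
      refine coeff_mapDom_eq_zero h E fun g hg => ?_
      rw [hE]
      exact (centralIn_gidem e).1 g fun h1 => hy (hK ▸ ⟨g, (le_sup_right : Cen D ≤ _) h1, hg⟩)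
    · rw [hK] at hu
      obtain ⟨n, hn, rfl⟩ := hu
      rw [hxE, cjA, ← mapDom_cjm]
      exact congrArg _ (hEfix n hn)
  -- blocks of `N / V` under the idempotent
  have hblk : ∀ c : Set (IrrCharacter K), IsPBlock M c → x * gidem M K c = gidem M K c →
      ∃ ψ : IrrCharacter K, c = {ψ} ∧
        p ^ (Nat.card K).factorization p ∣ charDegree (ψ : K → ℂ) := by
    intro c hc hocc
    let ι := {A : Set (IrrCharacter ((G ⧸ Φ) ⧸ V)) //
      IsPBlock M A ∧ ∃ hA : IsPBlock M A, red b * ridem hA = ridem hA}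
    let _ : Fintype ι := Fintype.ofFinite _
    have hsum := eq_sum_ridem (M := M) (x := red b)
      (fun g w => rcoeff_eq_of_isConj b ((isConj_iff.mpr ⟨w, rfl⟩).symm))
      (by rw [← map_mul, mapDomain_mul_self ha hbc])
    have h2 : gidem M K c * red b = gidem M K c := by
      have hcomm : x * gidem M K c = gidem M K c * x :=
        hxc.commute_of_supp (centralIn_gidem c).1
      calc gidem M K c * red b = x * gidem M K c * red b := by rw [hocc]
        _ = gidem M K c * (x * red b) := by rw [hcomm, mul_assoc]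
        _ = gidem M K c := by rw [hxb, ← hcomm, hocc]
    obtain ⟨A, hA⟩ : ∃ A : ι, gidem M K c * ridem A.2.1 ≠ 0 := by
      by_contra hall
      push Not at hall
      apply gidem_ne_zero hc
      rw [← h2, hsum, Finset.mul_sum]
      exact Finset.sum_eq_zero fun A _ => hall A
    obtain ⟨hAb, hAocc⟩ := A.2.2
    have hne : gidemTop M A.1 * gidem M K c ≠ 0 := by
      rw [gidemTop_eq hAb, red_commute]
      exact hA
    obtain ⟨φ, hφ, ψ, hψ, hin⟩ := (covers_iff hAb hc).mpr hne
    have h3 : bomega φ b = 1 :=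
      (bomega_eq_one_iff (by rw [mapDomain_mul_self ha hbc]) hAb hφ).mpr hAocc
    have h4 : zomega φ b = 1 := (bomega_zero_or_one (mapDomain_mul_self ha hbc) φ).resolve_left
      fun h0 => by rw [bomega_apply, h0, map_zero] at h3; exact zero_ne_one h3
    have hcd := CfsgLib.Blocks.charDegree_eq (CfsgLib.Char.isCharacter_of_isIrr φ.2)
    rw [hdegB φ h4] at hcd
    obtain ⟨hdiv, hquo⟩ := CfsgLib.Char.degree_quotient_dvd_index K φ.2 ψ.2 hin hcd
      (CfsgLib.Blocks.charDegree_eq (CfsgLib.Char.isCharacter_of_isIrr ψ.2))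
    obtain ⟨k, hk⟩ := hdiv
    rw [hk, Nat.mul_div_cancel_left _ (Nat.pos_of_ne_zero (charDegree_ne_zero ψ))] at hquo
    have hk0 : k ≠ 0 := fun h0 => by rw [h0, mul_zero] at hk; omega
    have h5 := (Nat.factorization_le_iff_dvd hk0 Subgroup.index_ne_zero_of_finite).mpr hquo p
    have h6 := (hp.out.pow_dvd_iff_le_factorization (by omega)).mp hdvd
    rw [hk, Nat.factorization_mul (charDegree_ne_zero ψ) hk0, Finsupp.add_apply, ← K.card_mul_index,
      Nat.factorization_mul Nat.card_pos.ne' Subgroup.index_ne_zero_of_finite, Finsupp.add_apply] at h6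
    have hψd : p ^ (Nat.card K).factorization p ∣ charDegree (ψ : K → ℂ) :=
      (hp.out.pow_dvd_iff_le_factorization (charDegree_ne_zero ψ)).mpr (by omega)
    exact ⟨ψ, (isPBlock_eq_blockOf hc hψ).trans (blockOf_singleton_of_dvd hM rfl hψd), hψd⟩
  obtain ⟨y, hy, hycls⟩ := hxc.exists_eq_emb
  have hyy : y * y = y := emb_injective K (by rw [map_mul, hy, hxx])
  obtain ⟨yZ, hyZ⟩ := exists_lift hycls
  -- at most one block
  let N₀ : Subgroup G := D ⊔ Cen D
  let _ := Fintype.ofFinite N₀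
  have hocc1 : ∀ ψ : IrrCharacter K, ∀ hc : IsPBlock M ({ψ} : Set (IrrCharacter K)),
      y * ridem hc = ridem hc → ∀ j : N₀ →* K, (∀ n : N₀, ((j n : K) : (G ⧸ Φ) ⧸ V) = h (n : G)) →
      ∀ η : IrrCharacter N₀, (η : N₀ → ℂ) = (ψ : K → ℂ) ∘ j →
        gidem M N₀ (blockOf M (η : N₀ → ℂ)) = E := by
    intro ψ hc hocc j hj η hη
    have hEN : CentralIn N₀ E := ⟨fun g hg => by
      rw [hE]; exact (centralIn_gidem e).1 g fun h1 => hg ((le_sup_right : Cen D ≤ _) h1),
      fun u hu => hEfix u hu⟩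
    obtain ⟨z, hz, hzcls⟩ := hEN.exists_eq_emb
    obtain ⟨zZ, hzZ⟩ := exists_lift hzcls
    have hjsurj : Function.Surjective j := fun w => by
      obtain ⟨n, hn, hnw⟩ : (w : (G ⧸ Φ) ⧸ V) ∈ (D ⊔ Cen D).map h := hK ▸ w.2
      exact ⟨⟨n, hn⟩, Subtype.ext ((hj _).trans hnw)⟩
    obtain ⟨wZ, -, hwred, hwom⟩ := exists_push j hjsurj zZ
    have hwy : red wZ = y := by
      apply emb_injective K
      rw [hy, hxE, ← hz, hwred, hzZ, emb, emb, mapDom_comp, mapDom_comp]
      congr 2
      ext n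
      exact hj n
    have h1 : bomega ψ wZ = 1 :=
      (bomega_eq_one_iff (by rw [map_mul, hwy, hyy]) hc rfl).mpr (by rw [hwy]; exact hocc)
    have h2 : bomega η zZ = 1 := by
      rw [bomega_apply, ← hwom ψ η hη, ← bomega_apply, h1]
    have hbl := isPBlock_blockOf (M := M) η
    have hzz : red (zZ * zZ) = red zZ := by
      rw [map_mul, hzZ]
      exact emb_injective N₀ (by rw [map_mul, hz, hEE])
    have h3 : E * gidem M N₀ (blockOf M (η : N₀ → ℂ)) = gidem M N₀ (blockOf M (η : N₀ → ℂ)) := by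
      have h4 := (bomega_eq_one_iff hzz hbl (mem_blockOf_self η)).mp h2
      rw [hzZ] at h4
      rw [gidem_eq_emb hbl, ← hz, ← map_mul, h4]
    have hsupp : ∀ g, g ∉ Cen D → (gidem M N₀ (blockOf M (η : N₀ → ℂ))).coeff g = 0 := fun g hg => by
      rw [← br_eq_self_normalizer hM hDp le_sup_left
        (le_top.trans (Subgroup.normalizer_eq_top (H := D)).ge) hbl, coeff_br, if_neg hg]
    have hC := centralIn_of_mono (centralIn_gidem (M := M) (blockOf M (η : N₀ → ℂ)))
      (le_sup_right : Cen D ≤ N₀) hsupp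
    rcases occurs_cases hC (gidem_mul_self hbl) heb with h5 | h5
    · rw [← h3, hEN.commute_of_supp (centralIn_gidem _).1, hE]
      exact h5
    · exfalso
      apply gidem_ne_zero hbl
      rw [← h3, hEN.commute_of_supp (centralIn_gidem _).1, hE]
      exact h5
  let jh : N₀ →* K := (h.comp N₀.subtype).codRestrict K fun n => hK ▸ ⟨(n : G), n.2, rfl⟩
  have hjh : ∀ n : N₀, ((jh n : K) : (G ⧸ Φ) ⧸ V) = h (n : G) := fun n => rfl
  have hjsurj : Function.Surjective jh := fun w => by
    obtain ⟨n, hn, hnw⟩ : (w : (G ⧸ Φ) ⧸ V) ∈ (D ⊔ Cen D).map h := hK ▸ w.2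
    exact ⟨⟨n, hn⟩, Subtype.ext hnw⟩
  have hjker : jh.ker = D.subgroupOf N₀ := by
    ext n
    rw [MonoidHom.mem_ker, Subgroup.mem_subgroupOf]
    constructor
    · intro h1
      have h2 : (n : G) ∈ h.ker := congrArg Subtype.val h1
      rwa [hhker] at h2
    · intro h1
      rw [← hhker] at h1
      exact Subtype.ext h1
  have hQp : IsPGroup p (D.subgroupOf N₀) :=
    hDp.of_equiv (Subgroup.subgroupOfEquivOfLe le_sup_left).symm
  have hQC : ∃ j : ℕ, (Subgroup.centralizer ((D.subgroupOf N₀ : Subgroup N₀) : Set N₀)).index = p ^ j := by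
    refine CanonicalChar.index_pow hQp ?_
    refine eq_top_iff.mpr ?_
    rw [show (⊤ : Subgroup N₀) = (D ⊔ Cen D).subgroupOf N₀ from (Subgroup.subgroupOf_self _).symm,
      Subgroup.subgroupOf_sup le_sup_left le_sup_right]
    refine sup_le_sup_left (fun v hv => Subgroup.mem_centralizer_iff.mpr fun w hw => Subtype.ext ?_) _
    exact Subgroup.mem_centralizer_iff.mp (Subgroup.mem_subgroupOf.mp hv) _
      (Subgroup.mem_subgroupOf.mp hw)
  let _ : Fintype {c : Set (IrrCharacter K) // IsPBlock M c ∧ ∃ hc : IsPBlock M c, y * ridem hc = ridem hc} :=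
    Fintype.ofFinite _
  have hyocc : ∀ c : {c : Set (IrrCharacter K) // IsPBlock M c ∧ ∃ hc : IsPBlock M c, y * ridem hc = ridem hc},
      ∃ ψ : IrrCharacter K, c.1 = {ψ} ∧
        p ^ (Nat.card K).factorization p ∣ charDegree (ψ : K → ℂ) := fun c => by
    obtain ⟨hc, h1⟩ := c.2.2
    exact hblk c.1 hc (by rw [gidem_eq_emb hc, ← hy, ← map_mul, h1])
  choose ψf hψf hψd using hyocc
  have huniq : ∀ c c', ψf c = ψf c' := by
    intro c c'
    have hbc : IsPBlock M ({ψf c} : Set (IrrCharacter K)) := hψf c ▸ c.2.1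
    have hbc' : IsPBlock M ({ψf c'} : Set (IrrCharacter K)) := hψf c' ▸ c'.2.1
    have ho : ∀ c, ∀ hb : IsPBlock M ({ψf c} : Set (IrrCharacter K)), y * ridem hb = ridem hb := by
      intro c hb
      obtain ⟨hc, h1⟩ := c.2.2
      have e : ridem hb = ridem hc := by
        show red (idem hb) = red (idem hc)
        exact congrArg red (Subtype.ext (by simp only [idem]; rw [hψf c]))
      rw [e, h1]
    let η : IrrCharacter N₀ := ⟨_, CfsgLib.Weight.isIrr_comp_of_surjective jh hjsurj (ψf c).2⟩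
    let η' : IrrCharacter N₀ := ⟨_, CfsgLib.Weight.isIrr_comp_of_surjective jh hjsurj (ψf c').2⟩
    have h1 := hocc1 _ hbc (ho c hbc) jh hjh η rfl
    have h2 := hocc1 _ hbc' (ho c' hbc') jh hjh η' rfl
    have h3 := gidem_inj (isPBlock_blockOf η) (isPBlock_blockOf η') (h1.trans h2.symm)
    refine eq_of_inflations hM hQp hQC jh hjsurj hjker (hψd c) (η := η) (η' := η') rfl rfl ?_
    have h4 : η' ∈ blockOf M (η : N₀ → ℂ) := by rw [h3]; exact mem_blockOf_self η'
    exact h4
  obtain ⟨c₀⟩ : Nonempty {c : Set (IrrCharacter K) // IsPBlock M c ∧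
      ∃ hc : IsPBlock M c, y * ridem hc = ridem hc} := by
    obtain ⟨c, hc, h1⟩ := exists_occurs hycls hyy (fun h0 => hx0 (by rw [← hy, h0, map_zero]))
    exact ⟨⟨c, hc, hc, h1⟩⟩
  set ψ := ψf c₀ with hψ
  obtain ⟨A, hA⟩ := exists_form hM ψ rfl
  have hform := isZeroDefectForm_of hM (θ := ψ) rfl (hψd c₀) A hA
  have hBψ : IsPBlock M ({ψ} : Set (IrrCharacter K)) := hψf c₀ ▸ c₀.2.1
  have hymu : y = ∑ i, mu A i i := by
    rw [sum_mu hform ψ rfl hBψ, eq_sum_ridem hycls hyy, Finset.sum_eq_single c₀]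
    · exact congrArg red (Subtype.ext (by simp only [idem]; rw [hψf c₀]))
    · intro c _ hc
      exact absurd (Subtype.ext (by rw [hψf c, hψf c₀, huniq c c₀])) hc
    · exact fun hn => absurd (Finset.mem_univ _) hn
  have hdpos : 0 < charDegree (ψ : K → ℂ) := Nat.pos_of_ne_zero (charDegree_ne_zero ψ)
  let i₀ : Fin (charDegree (ψ : K → ℂ)) := ⟨0, hdpos⟩
  -- functions through `K`
  have hπN : ∀ z : G ⧸ Φ, π z ∈ K ↔ z ∈ N := by
    intro z
    obtain ⟨g, rfl⟩ := hq z
    rw [hK, hN]
    constructor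
    · rintro ⟨n, hn, hng⟩
      have h1 : g⁻¹ * n ∈ h.ker := by
        rw [MonoidHom.mem_ker, map_mul, map_inv, hng]
        exact inv_mul_cancel _
      rw [hhker] at h1
      have h2 := (D ⊔ Cen D).mul_mem hn ((D ⊔ Cen D).inv_mem ((le_sup_left : D ≤ _) h1))
      rw [mul_inv_rev, inv_inv, mul_inv_cancel_left] at h2
      exact ⟨g, h2, rfl⟩
    · rintro ⟨n, hn, hng⟩
      exact ⟨n, hn, congrArg π hng⟩
  let ext : (K → Res M) → (G ⧸ Φ) → Res M := fun F z =>
    if hz : π z ∈ K then F ⟨π z, hz⟩ else 0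
  have hext : ∀ (F : K → Res M) (z : MonoidAlgebra (Res M) K) (w : MonoidAlgebra (Res M) (G ⧸ Φ)),
      MonoidAlgebra.mapDomainRingHom (Res M) π w = emb K z → lext (ext F) w = lext F z := by
    intro F z w hw
    let F' : (G ⧸ Φ) ⧸ V → Res M := fun v => if hv : v ∈ K then F ⟨v, hv⟩ else 0
    have e1 : lext (ext F) w = lext F' (MonoidAlgebra.mapDomainRingHom (Res M) π w) := by
      rw [lext_map]
    rw [e1, hw, emb, lext_map]
    congr 1
    refine congrArg lext (funext fun v => ?_)
    simp only [F', Subgroup.coe_subtype, dif_pos v.2, Subtype.coe_eta]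
  have hkey : ∀ (F : K → Res M), (∀ a b, F (a * b) = F (b * a)) → ∀ (n : G ⧸ Φ) (hn : π n ∈ K),
      lext (ext F) (MonoidAlgebra.single n 1 * ε) =
        res M (A ⟨π n, hn⟩).trace * lext F (mu A i₀ i₀) := by
    intro F hF n hn
    rw [hext F (MonoidAlgebra.single ⟨π n, hn⟩ 1 * y) _ (by
      rw [map_mul, map_mul, hy, mapDom_single, emb, mapDom_single, ← hx]
      rfl), hymu]
    exact trace_functional_eq hform (lext F) (lext_trace F hF) i₀ _
  let tr : K → Res M := fun w => res M (A w).trace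
  have htr : ∀ a b, tr (a * b) = tr (b * a) := fun a b => by
    simp only [tr, map_mul, Matrix.trace_mul_comm (A a)]
  have htr1 : lext tr (mu A i₀ i₀) = 1 := by
    rw [lext_eq_sum]; exact charval_mu hform i₀
  let θ : G ⧸ Φ → Res M := ext tr
  have hθN : ∀ z, z ∉ N → θ z = 0 := fun z hz => dif_neg fun h1 => hz ((hπN z).mp h1)
  have hdata : Data p V N θ ε :=
    { le := hV ▸ hN ▸ Subgroup.map_mono le_sup_left
      central := by
        rw [hV, hN]
        intro v hv n hn
        obtain ⟨v, hv, rfl⟩ := hv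
        obtain ⟨n, hn, rfl⟩ := hn
        obtain ⟨d₁, hd₁, w, hw, rfl⟩ := Subgroup.mem_sup_of_normal_right.mp hn
        have h1 := hVab (q v) (hV ▸ ⟨v, hv, rfl⟩) (q d₁) (hV ▸ ⟨d₁, hd₁, rfl⟩)
        have h2 : q v * q w = q w * q v := by
          rw [← map_mul, ← map_mul, Subgroup.mem_centralizer_iff.mp hw v hv]
        rw [map_mul, ← mul_assoc, h1, mul_assoc, h2, ← mul_assoc]
      exp := hVexp
      zero_off := hθN
      inv := fun v hv z => by
        have e : π (v * z) = π z := by
          rw [map_mul, show π v = 1 from (QuotientGroup.eq_one_iff v).mpr hv, one_mul]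
        show ext tr (v * z) = ext tr z
        simp only [ext, e]
      cls := fun n hn z => by
        have hnK : π n ∈ K := (hπN n).mpr hn
        show ext tr (n * z * n⁻¹) = ext tr z
        by_cases hz : π z ∈ K
        · have h1 : π (n * z * n⁻¹) ∈ K := by
            rw [map_mul, map_mul, map_inv]; exact K.mul_mem (K.mul_mem hnK hz) (K.inv_mem hnK)
          simp only [ext, dif_pos hz, dif_pos h1]
          rw [show (⟨π (n * z * n⁻¹), h1⟩ : K) = ⟨π n, hnK⟩ * ⟨π z, hz⟩ * ⟨π n, hnK⟩⁻¹ from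
            Subtype.ext (by simp), htr, ← mul_assoc, inv_mul_cancel, one_mul]
        · have h1 : π (n * z * n⁻¹) ∉ K := fun h1 => hz (by
            rw [map_mul, map_mul, map_inv] at h1
            have := K.mul_mem (K.mul_mem (K.inv_mem hnK) h1) hnK
            simpa [mul_assoc] using this)
          simp only [ext, dif_neg hz, dif_neg h1]
      ne_zero := by
        obtain ⟨w, hw⟩ : ∃ w, tr w ≠ 0 := by
          by_contra hall
          push Not at hall
          rw [lext_eq_sum, Finset.sum_eq_zero fun w _ => by rw [hall w, mul_zero]] at htr1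
          exact zero_ne_one htr1
        obtain ⟨z, hz⟩ := QuotientGroup.mk'_surjective V (w : (G ⧸ Φ) ⧸ V)
        have hzK : π z ∈ K := by show QuotientGroup.mk' V z ∈ K; rw [hz]; exact w.2
        refine ⟨z, (hπN z).mp hzK, ?_⟩
        show ext tr z ≠ 0
        simp only [ext, dif_pos hzK]
        rwa [show (⟨π z, hzK⟩ : K) = w from Subtype.ext hz]
      supp := hεsupp
      comm := hεcomm
      fix := fun n hn => by
        have hnK : π n ∈ K := (hπN n).mpr hn
        rw [hkey tr htr n hnK, htr1, mul_one]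
        show _ = ext tr n
        simp only [ext, dif_pos hnK]
        rfl
      orth := horth
      uniq := fun F hFc hFv hFe => by
        let out : (w : K) → {z : G ⧸ Φ // π z = (w : (G ⧸ Φ) ⧸ V)} := fun w =>
          ⟨Function.surjInv (QuotientGroup.mk'_surjective V) w,
            Function.surjInv_eq (QuotientGroup.mk'_surjective V) _⟩
        let FK : K → Res M := fun w => F (out w).1
        have houtN : ∀ w, (out w).1 ∈ N := fun w => (hπN _).mp (by rw [(out w).2]; exact w.2)
        have hFKπ : ∀ (z : G ⧸ Φ) (hz : π z ∈ K), F z = FK ⟨π z, hz⟩ := by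
          intro z hz
          have h1 : (out ⟨π z, hz⟩).1 * z⁻¹ ∈ V := by
            rw [← QuotientGroup.eq_one_iff]
            show π ((out ⟨π z, hz⟩).1 * z⁻¹) = 1
            rw [map_mul, (out ⟨π z, hz⟩).2, map_inv]
            exact mul_inv_cancel _
          have h2 := hFv _ h1 z
          rw [inv_mul_cancel_right] at h2
          exact h2.symm
        have hFK : ∀ a b, FK (a * b) = FK (b * a) := by
          intro a b
          have e1 : π ((out a).1 * (out b).1) = ((a * b : K) : (G ⧸ Φ) ⧸ V) := by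
            rw [map_mul, (out a).2, (out b).2]; rfl
          have e2 : π ((out b).1 * (out a).1) = ((b * a : K) : (G ⧸ Φ) ⧸ V) := by
            rw [map_mul, (out a).2, (out b).2]; rfl
          have h1 := hFKπ ((out a).1 * (out b).1) (by rw [e1]; exact (a * b).2)
          have h2 := hFKπ ((out b).1 * (out a).1) (by rw [e2]; exact (b * a).2)
          rw [show (⟨π ((out a).1 * (out b).1), _⟩ : K) = a * b from Subtype.ext e1] at h1
          rw [show (⟨π ((out b).1 * (out a).1), _⟩ : K) = b * a from Subtype.ext e2] at h2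
          rw [← h1, ← h2, ← hFc _ (houtN a) ((out b).1 * (out a).1)]
          congr 1
          group
        refine ⟨lext FK (mu A i₀ i₀), fun n hn => ?_⟩
        have hnK : π n ∈ K := (hπN n).mpr hn
        have h1 : lext (ext FK) (MonoidAlgebra.single n 1 * ε) =
            lext F (MonoidAlgebra.single n 1 * ε) := by
          rw [lext_eq_sum, lext_eq_sum]
          refine Finset.sum_congr rfl fun z _ => ?_
          by_cases hz : π z ∈ K
          · rw [hFKπ z hz]
            simp only [ext, dif_pos hz]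
          · rw [coeff_mul_eq_sum, Finset.sum_eq_zero, zero_mul, zero_mul]
            intro w _
            rw [MonoidAlgebra.coeff_single, Finsupp.single_apply]
            split_ifs with hw
            · subst hw
              rw [hεsupp _ fun h2 => hz ((hπN z).mpr (by
                simpa using N.mul_mem hn h2)), mul_zero]
            · rw [zero_mul]
        rw [hkey FK hFK n hnK, hFe n hn] at h1
        rw [← h1, mul_comm]
        congr 1
        show _ = ext tr n
        simp only [ext, dif_pos hnK]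
        rfl }
  -- the action on `V`
  have hmove : ∀ g ∈ stab M D e, g ∉ D ⊔ Cen D → ∃ a : ℕ, ¬ p ∣ orderOf (g ^ p ^ a) ∧
      ∃ v ∈ V, q (g ^ p ^ a) * v ≠ v * q (g ^ p ^ a) := by
    intro g hg hgN
    obtain ⟨a, hreg, v, hv, hne⟩ := exists_not_commute hM hmax hg hgN
    refine ⟨a, hreg, q v, hV ▸ ⟨v, hv, rfl⟩, fun hc => hne ?_⟩
    rw [← hΦdef, ← QuotientGroup.eq_one_iff]
    show q ⁅g ^ p ^ a, v⁆ = 1
    rw [map_commutatorElement, commutatorElement_eq_one_iff_mul_comm]
    exact hc
  have hcpow : ∀ {w : G ⧸ Φ} {j : ℕ} {v : G ⧸ Φ}, w * v = v * w → w ^ j * v = v * w ^ j :=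
    fun {w j v} h1 => (Commute.pow_left h1 j).eq
  have hout : ∀ z, MonoidAlgebra.single z (1 : Res M) * ε = ε * MonoidAlgebra.single z 1 → z ∉ N →
      ∃ W : Subgroup (G ⧸ Φ), W ≤ V ∧ (∀ w ∈ W, ∃ x ∈ V, w = (z⁻¹ * x * z)⁻¹ * x) ∧
        Nat.card W ≠ 1 ∧ (p ≠ 2 ∨ 4 ∣ Nat.card W) := by
    intro z hz hzN
    obtain ⟨g, rfl⟩ := hq z
    obtain ⟨a, hreg, v, hv, hne⟩ := hmove g (hstab g hz) fun h1 => hzN (hN ▸ ⟨g, h1, rfl⟩)
    set c := q g with hc
    have hcV : ∀ x ∈ V, c⁻¹ * x * c ∈ V := fun x hx => by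
      have := hVn.conj_mem x hx c⁻¹
      rwa [inv_inv] at this
    let f : V →* G ⧸ Φ :=
      { toFun := fun x => (c⁻¹ * x * c)⁻¹ * x
        map_one' := by simp
        map_mul' := fun x y => by
          have hx' := hcV _ x.2
          have hy' := hcV _ y.2
          have h1 := hVab _ (inv_mem hy') _ (V.mul_mem (inv_mem hx') x.2)
          simp only [Subgroup.coe_mul]
          calc (c⁻¹ * (↑x * ↑y) * c)⁻¹ * (↑x * ↑y)
              = (c⁻¹ * ↑y * c)⁻¹ * ((c⁻¹ * ↑x * c)⁻¹ * ↑x) * ↑y := by group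
            _ = (c⁻¹ * ↑x * c)⁻¹ * ↑x * (c⁻¹ * ↑y * c)⁻¹ * ↑y := by rw [h1]
            _ = _ := by rw [mul_assoc] }
    have hfV : f.range ≤ V := by
      rintro _ ⟨x, rfl⟩
      exact V.mul_mem (inv_mem (hcV _ x.2)) x.2
    have hW1 : Nat.card f.range ≠ 1 := by
      intro h1
      apply hne
      have hbot : f.range = ⊥ := Subgroup.card_eq_one.mp h1
      have h2 : f ⟨v, hv⟩ = 1 := Subgroup.mem_bot.mp (hbot ▸ ⟨_, rfl⟩)
      have h3 : c * v = v * c := by
        have h4 : c⁻¹ * v * c = v := inv_mul_eq_one.mp h2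
        calc c * v = c * (c⁻¹ * v * c) := by rw [h4]
          _ = v * c := by group
      rw [map_pow]
      exact hcpow h3
    refine ⟨f.range, hfV, ?_, hW1, ?_⟩
    · rintro _ ⟨x, rfl⟩
      exact ⟨x, x.2, rfl⟩
    · by_cases hp2 : p = 2
      swap
      · exact Or.inl hp2
      refine Or.inr ?_
      have hWp : IsPGroup p f.range := hVp.to_le hfV
      obtain ⟨j, hj⟩ := IsPGroup.iff_card.mp hWp
      rw [hp2] at hj
      rw [hj]
      rcases Nat.lt_or_ge j 2 with hj2 | hj2
      swap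
      · exact pow_dvd_pow 2 hj2
      exfalso
      have hj1 : j = 1 := by
        rcases Nat.eq_zero_or_pos j with rfl | h
        · exact absurd (hj.trans (pow_zero 2)) hW1
        · omega
      rw [hj1, pow_one] at hj
      -- the conjugation has order at most two
      have hsq : ∀ x ∈ V, c⁻¹ * (c⁻¹ * x * c) * c = x := by
        intro x hx
        have hrel : ∀ x (hx : x ∈ V), c⁻¹ * x * c = x * (f ⟨x, hx⟩)⁻¹ := by
          intro x hx
          show c⁻¹ * x * c = x * ((c⁻¹ * x * c)⁻¹ * x)⁻¹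
          rw [mul_inv_rev, inv_inv, mul_inv_cancel_left]
        set w := f ⟨x, hx⟩ with hw
        by_cases hw1 : w = 1
        · have h1 := hrel x hx
          rw [← hw, hw1, inv_one, mul_one] at h1
          rw [h1, h1]
        have hwV : w ∈ V := hfV ⟨_, rfl⟩
        have hfw : c⁻¹ * w * c = w := by
          have h1 := hrel w hwV
          obtain ⟨e₁, e₂, he, huniv⟩ := Nat.card_eq_two_iff.mp hj
          let t : f.range := ⟨w, ⟨_, rfl⟩⟩
          let s : f.range := ⟨f ⟨w, hwV⟩, ⟨_, rfl⟩⟩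
          have hcase : s = 1 ∨ s = t := by
            have hall : ∀ r : f.range, r = e₁ ∨ r = e₂ := fun r => by
              have : r ∈ ({e₁, e₂} : Set f.range) := huniv ▸ Set.mem_univ r
              simpa using this
            have ht1 : t ≠ 1 := fun h => hw1 (congrArg Subtype.val h)
            rcases hall s with h | h <;> rcases hall t with h' | h' <;> rcases hall 1 with h'' | h'' <;>
              first
                | exact Or.inl (h.trans h''.symm)
                | exact Or.inr (h.trans h'.symm)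
                | exact absurd (h'.trans h''.symm) ht1
          rcases hcase with h | h
          · have h2 : f ⟨w, hwV⟩ = 1 := congrArg Subtype.val h
            rw [h1, h2, inv_one, mul_one]
          · have h2 : f ⟨w, hwV⟩ = w := congrArg Subtype.val h
            rw [h2, mul_inv_cancel] at h1
            exfalso
            have h3 : w = 1 := by
              calc w = c * (c⁻¹ * w * c) * c⁻¹ := by group
                _ = 1 := by rw [h1]; group
            exact hw1 h3
        have h1 := hrel x hx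
        rw [← hw] at h1
        have hw2 : w⁻¹ = w := by
          rw [inv_eq_iff_mul_eq_one, ← pow_two, ← hp2]
          exact hVexp w hwV
        rw [hw2] at h1
        rw [h1, show c⁻¹ * (x * w) * c = (c⁻¹ * x * c) * (c⁻¹ * w * c) by group, h1, hfw, mul_assoc,
          ← pow_two, ← hp2, hVexp w hwV, mul_one]
      apply hne
      have h1 : ∀ x ∈ V, (c * c) * x = x * (c * c) := fun x hx => by
        calc (c * c) * x = (c * c) * (c⁻¹ * (c⁻¹ * x * c) * c) := by rw [hsq x hx]
          _ = x * (c * c) := by group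
      rw [map_pow]
      have hodd : Odd (orderOf (g ^ p ^ a)) := by
        rw [← Nat.not_even_iff_odd, even_iff_two_dvd]
        rw [hp2] at hreg ⊢
        exact hreg
      obtain ⟨l, hl⟩ := hodd
      have h2 : (c * c) ^ (p ^ a * (l + 1)) = c ^ p ^ a := by
        have h3 : (c ^ p ^ a) ^ (2 * l + 1) = 1 := by
          rw [← hl, hc, ← map_pow, ← map_pow, pow_orderOf_eq_one, map_one]
        rw [← pow_two, ← pow_mul, show 2 * (p ^ a * (l + 1)) = p ^ a * (2 * l + 1) + p ^ a by ring,
          pow_add, pow_mul, h3, one_mul]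
      rw [← h2]
      exact hcpow (h1 v hv)
  have hdec : ∀ r, InAug V r → r * ε = r → ∃ (ι : Type) (_ : Fintype ι)
      (z u : ι → MonoidAlgebra (Res M) (G ⧸ Φ)), (∀ i s, z i * s = s * z i) ∧ (∀ i, InAug V (z i)) ∧
        r = ∑ i, z i * u i := fun r hr hre =>
    exists_decomp hM hVp ha hdegA hdvd r hr (by rw [← hre, mul_assoc, hεa])
  intro g hg
  by_contra hgN
  obtain ⟨a', -, v, hv, hne⟩ := hmove g hg hgN
  have hcom : MonoidAlgebra.single (q g) 1 * ε = ε * MonoidAlgebra.single (q g) 1 := by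
    by_contra h1
    exact hlift g h1 (hE ▸ hg.2)
  apply hne
  rw [map_pow]
  exact hcpow (commute_of_decomp hdata hout hdec hcom hεε hv)

/-- In a nilpotent block the height-zero members have one degree. -/
theorem exists_degree_of_nilpotent (hM : IsPModular p M) {B : Set (IrrCharacter G)} {D : Subgroup G}
    (hDd : IsDefectGroup p M B D) (hnil : IsNilpotentBlock p M B) :
    ∃ d : ℕ, ∀ χ : IrrCharacter G, χ ∈ B → blockHeight p B (χ : G → ℂ) = 0 →
      charDegree (χ : G → ℂ) = d := by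
  obtain ⟨χ₀, hχ₀, hh₀, f, hf⟩ := CfsgLib.NilBlock.exists_equiv_of_nilpotent hM hnil hDd
  refine ⟨charDegree (χ₀ : G → ℂ), fun χ hχ hh => ?_⟩
  set μ := f.symm ⟨χ, hχ⟩ with hμ
  have h1 := hf μ 1 (by simpa using hp.out.one_lt.ne')
  rw [hμ, Equiv.apply_symm_apply, CfsgLib.Blocks.charDegree_eq (CfsgLib.Char.isCharacter_of_isIrr χ.2),
    CfsgLib.Blocks.charDegree_eq (CfsgLib.Char.isCharacter_of_isIrr χ₀.2)] at h1
  have h2 : charDegree (χ : G → ℂ) = charDegree (μ : D → ℂ) * charDegree (χ₀ : G → ℂ) := by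
    exact_mod_cast h1
  let _ := Fintype.ofFinite D
  have h3 : (charDegree (μ : D → ℂ)).factorization p = 0 := by
    have ha := degree_height hM hnil.1 hχ
    have hb := degree_height hM hnil.1 hχ₀
    rw [h2, hh, Nat.factorization_mul (charDegree_ne_zero μ) (charDegree_ne_zero χ₀),
      Finsupp.add_apply] at ha
    rw [hh₀] at hb
    omega
  obtain ⟨n, hn⟩ := IsPGroup.iff_card.mp (IsDefectGroup.isPGroup hDd)
  obtain ⟨j, -, hj⟩ := (Nat.dvd_prime_pow hp.out).mp
    (hn ▸ CfsgLib.CharBlocks.charDegree_dvd_card μ.2)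
  rw [hj, hp.out.factorization_pow, Finsupp.single_eq_same] at h3
  rw [h2, hj, h3, pow_zero, one_mul]

end CfsgLib.CharBlocks.EqualDegree
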